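import Mathlib
import Cfsg.Prelude.Def_SporadicB
import Cfsg.Agent.SporadicStructure.FischerSpace
import Cfsg.Agent.SporadicStructure.FischerPrimitive
import Cfsg.Agent.SporadicStructure.FischerRank3

set_option autoImplicit false

/-!
# Classes of 3-transpositions as spaces of points: conjugation, rank three data
-/

namespace Cfsg.Agent.ThreeTransPolar.Basic

open Cfsg Cfsg.Agent.SporadicStructure.FischerSpace

variable {G : Type*} [Group G] {D : Set G}

/-- Conjugation. -/
def cj (g x : G) : G := g * x * g⁻¹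

theorem cj_def (g x : G) : cj g x = g * x * g⁻¹ := rfl

theorem cj_mul (g h x : G) : cj (g * h) x = cj g (cj h x) := by
  simp only [cj_def]; group

@[simp] theorem cj_one (x : G) : cj 1 x = x := by simp [cj_def]

@[simp] theorem cj_inv_cj (g x : G) : cj g⁻¹ (cj g x) = x := by
  simp only [cj_def]; group

@[simp] theorem cj_cj_inv (g x : G) : cj g (cj g⁻¹ x) = x := by
  simp only [cj_def]; group

@[simp] theorem cj_self (x : G) : cj x x = x := by simp [cj_def]

theorem cj_inj {g x y : G} : cj g x = cj g y ↔ x = y := by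
  constructor
  · intro h
    rw [← cj_inv_cj g x, h, cj_inv_cj]
  · rintro rfl; rfl

theorem cj_injective (g : G) : Function.Injective (cj g) := fun _ _ h => cj_inj.1 h

theorem commute_cj {g x y : G} : Commute (cj g x) (cj g y) ↔ Commute x y :=
  FData.commute_conj_gen g x y

/-- `cj g x = x` iff `g` and `x` commute -/
theorem cj_eq_self_iff {g x : G} : cj g x = x ↔ Commute g x := by
  rw [cj_def]
  constructor
  · intro h
    show g * x = x * g
    calc g * x = (g * x * g⁻¹) * g := by group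
      _ = x * g := by rw [h]
  · intro h
    have h' : g * x = x * g := h
    rw [h', mul_assoc, mul_inv_cancel, mul_one]

theorem cj_of_commute {g x : G} (h : Commute g x) : cj g x = x := cj_eq_self_iff.2 h

theorem cj_cj (g x z : G) : cj (cj g x) z = cj g (cj x (cj g⁻¹ z)) := by
  simp only [cj_def]; group

theorem cj_comm_of_commute {g h : G} (hgh : Commute g h) (x : G) : cj g (cj h x) = cj h (cj g x) := by
  rw [← cj_mul, ← cj_mul, hgh.eq]

theorem commute_cj_left {g x y : G} : Commute (cj g x) y ↔ Commute x (cj g⁻¹ y) := by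
  rw [← commute_cj (g := g) (x := x), cj_cj_inv]

/-! ### Facts on members of `D` -/

section FD

theorem cj_mem (h : FData D) {g x : G} (hx : x ∈ D) : cj g x ∈ D := h.conj g x hx

theorem cj_mem_iff (h : FData D) {g x : G} : cj g x ∈ D ↔ x ∈ D :=
  ⟨fun h1 => by have := cj_mem h (g := g⁻¹) h1; rwa [cj_inv_cj] at this, cj_mem h⟩

theorem cj_inv_eq (h : FData D) {x : G} (hx : x ∈ D) (y : G) : cj x⁻¹ y = cj x y := by
  rw [h.inv_eq hx]

theorem cj_cj_self (h : FData D) {x : G} (hx : x ∈ D) (y : G) : cj x (cj x y) = y := by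
  rw [← cj_mul, h.sq x hx, cj_one]

theorem cj_eq_mul (h : FData D) {x : G} (hx : x ∈ D) (y : G) : cj x y = x * y * x := by
  rw [cj_def, h.inv_eq hx]

theorem commute_cj_left' (h : FData D) {x y z : G} (hx : x ∈ D) :
    Commute (cj x y) z ↔ Commute y (cj x z) := by
  rw [commute_cj_left, cj_inv_eq h hx]

theorem third_comm (h : FData D) {x y : G} (hx : x ∈ D) (hy : y ∈ D) (hxy : ¬ Commute x y) :
    cj x y = cj y x := by
  rw [cj_eq_mul h hx, cj_eq_mul h hy, h.braid x hx y hy hxy]

/-- conjugation by the third point interchanges the other two -/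
theorem cj_third (h : FData D) {x y : G} (hx : x ∈ D) (hy : y ∈ D) (hxy : ¬ Commute x y) :
    cj (cj x y) x = y := by
  rw [cj_cj, cj_inv_eq h hx, cj_self, third_comm h hy hx (fun h1 => hxy h1.symm),
    cj_cj_self h hx]

theorem cj_third' (h : FData D) {x y : G} (hx : x ∈ D) (hy : y ∈ D) (hxy : ¬ Commute x y) :
    cj (cj x y) y = x := by
  rw [third_comm h hx hy hxy, cj_third h hy hx (fun h1 => hxy h1.symm)]

theorem not_commute_third (h : FData D) {x y : G} (hx : x ∈ D) (hxy : ¬ Commute x y) :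
    ¬ Commute (cj x y) x := by
  rw [commute_cj_left' h hx, cj_self]
  exact fun h1 => hxy h1.symm

theorem third_ne_left (h : FData D) {x y : G} (hx : x ∈ D) (hxy : ¬ Commute x y) : cj x y ≠ x :=
  fun h1 => not_commute_third h hx hxy (by rw [h1])

theorem third_ne_right {x y : G} (hxy : ¬ Commute x y) : cj x y ≠ y :=
  fun h1 => hxy (cj_eq_self_iff.1 h1)

/-- if `d` commutes with `x` and `y` then with `cj x y` -/
theorem commute_cj_of {d x y : G} (h1 : Commute d x) (h2 : Commute d y) : Commute d (cj x y) :=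
  (h1.mul_right h2).mul_right h1.inv_right

/-- `S₄`-facts: `a ⟂ b`, `x` commuting with neither. -/
theorem s4_not_commute (h : FData D) {a b x : G} (ha : a ∈ D) (hb : b ∈ D) (hx : x ∈ D)
    (hab : Commute a b) (hxa : ¬ Commute x a) (hxb : ¬ Commute x b) : ¬ Commute (cj a x) b := by
  intro h1
  rw [← third_comm h hx ha hxa, commute_cj_left' h hx, third_comm h hx hb hxb] at h1
  have h2 := (commute_cj (g := b)).2 h1
  rw [cj_cj_self h hb, cj_of_commute hab.symm] at h2
  exact hxa h2.symm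

theorem s4_commute (h : FData D) {a b x : G} (ha : a ∈ D) (hb : b ∈ D) (hx : x ∈ D)
    (hab : Commute a b) (hxa : ¬ Commute x a) (hxb : ¬ Commute x b) :
    Commute x (cj a (cj b x)) := by
  rw [Commute.symm_iff, commute_cj_left' h ha, ← third_comm h hx hb hxb,
    ← third_comm h hx ha hxa, commute_cj]
  exact hab.symm

theorem s4_ne (h : FData D) {a b x : G} (ha : a ∈ D) (hb : b ∈ D) (hx : x ∈ D)
    (hne : a ≠ b) (hxa : ¬ Commute x a) (hxb : ¬ Commute x b) : cj a (cj b x) ≠ x := by
  intro h1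
  have h2 : cj b x = cj a x := by
    have := congrArg (cj a) h1
    rwa [cj_cj_self h ha] at this
  rw [← third_comm h hx ha hxa, ← third_comm h hx hb hxb] at h2
  exact hne (cj_inj.1 h2).symm

theorem s4_conj (h : FData D) {a b x : G} (ha : a ∈ D) (hb : b ∈ D) (hx : x ∈ D)
    (hab : Commute a b) (hxa : ¬ Commute x a) (hxb : ¬ Commute x b) :
    cj (x * cj a (cj b x)) a = b := by
  have h1 : ¬ Commute (cj b x) a := s4_not_commute h hb ha hx hab.symm hxb hxa
  rw [cj_mul, cj_cj a, cj_inv_eq h ha, cj_self,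
    third_comm h (cj_mem h hx) ha h1, cj_cj_self h ha, ← third_comm h hx hb hxb, cj_cj_self h hx]

end FD

/-! ### Rank three data -/

/-- the subgroup generated by the members of `D` commuting with `x` (including `x`) -/
def M (D : Set G) (x : G) : Subgroup G := Subgroup.closure {d | d ∈ D ∧ Commute d x}

theorem mem_M_of {x d : G} (hd : d ∈ D) (hdx : Commute d x) : d ∈ M D x :=
  Subgroup.subset_closure ⟨hd, hdx⟩

theorem commute_of_mem_M {x g : G} (hg : g ∈ M D x) : Commute g x := by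
  have hle : M D x ≤ Subgroup.centralizer {x} := by
    rw [M, Subgroup.closure_le]
    rintro y ⟨-, hy⟩
    rw [SetLike.mem_coe, Subgroup.mem_centralizer_singleton_iff]
    exact hy.eq
  exact Subgroup.mem_centralizer_singleton_iff.1 (hle hg)

/-- A class of 3-transpositions of rank three. -/
structure Rk (D : Set G) : Prop where
  fd : FData D
  center : ∀ g : G, (∀ d ∈ D, Commute g d) → g = 1
  perp_sub : ∀ a ∈ D, ∀ y ∈ D, (∀ d ∈ D, Commute d a → Commute d y) → a = y
  comTrans : ∀ x ∈ D, ∀ y ∈ D, ∀ z ∈ D, y ≠ x → z ≠ x → Commute x y → Commute x z →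
    ∃ g : G, cj g x = x ∧ cj g y = z
  colTrans : ∀ x ∈ D, ∀ y ∈ D, ∀ z ∈ D, ¬ Commute x y → ¬ Commute x z →
    ∃ g : G, cj g x = x ∧ cj g y = z
  both : ∀ x ∈ D, ∀ y ∈ D, Commute x y → ∃ u ∈ D, ¬ Commute u x ∧ ¬ Commute u y
  exPerp : ∀ x ∈ D, ∃ z ∈ D, z ≠ x ∧ Commute x z
  exCol : ∀ x ∈ D, ∃ z ∈ D, ¬ Commute x z
  exNonPerp : ∃ x ∈ D, ∃ w ∈ D, ∃ d ∈ D, ¬ Commute x w ∧ Commute d x ∧ Commute d w

theorem ncard_conj_eq (h : FData D) {x y : G} {g : G} (p : G → G → G → Prop)
    (hp : ∀ g d x y, p d x y → p (cj g d) (cj g x) (cj g y)) :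
    {d | d ∈ D ∧ p d x y}.ncard = {d | d ∈ D ∧ p d (cj g x) (cj g y)}.ncard := by
  rw [← Set.ncard_image_of_injective _ (cj_injective g)]
  congr 1
  ext d
  constructor
  · rintro ⟨e, ⟨he, hpe⟩, rfl⟩
    exact ⟨cj_mem h he, hp _ _ _ _ hpe⟩
  · rintro ⟨hd, hpd⟩
    refine ⟨cj g⁻¹ d, ⟨cj_mem h hd, ?_⟩, cj_cj_inv g d⟩
    have := hp g⁻¹ _ _ _ hpd
    rwa [cj_inv_cj, cj_inv_cj] at this

theorem rk_of_hyps [Finite G] (hsol : ∀ N : Subgroup G, N.Normal → Group.IsSolvable ↥N → N = ⊥)
    (hperf : ⁅commutator G, commutator G⁆ = commutator G)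
    (hD : Cfsg.IsThreeTranspositionClass D)
    (hone : ∀ x ∈ D, ∀ y ∈ {y : G | y ∈ D ∧ y ≠ x ∧ Commute x y},
      ∀ y' ∈ {y : G | y ∈ D ∧ y ≠ x ∧ Commute x y},
      ∃ g ∈ Subgroup.closure {y : G | y ∈ D ∧ y ≠ x ∧ Commute x y}, g * y * g⁻¹ = y') : Rk D := by
  classical
  have h : FData D := fdata_of_class hD
  have hperp_sub : ∀ a ∈ D, ∀ y ∈ D, (∀ d ∈ D, Commute d a → Commute d y) → a = y := by
    intro a ha y hy hsub
    obtain ⟨g, hg⟩ := h.single a ha y hy
    have hcard : {d | d ∈ D ∧ Commute d a}.ncard = {d | d ∈ D ∧ Commute d y}.ncard := by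
      have := ncard_conj_eq h (x := a) (y := a) (g := g) (fun d x _ => Commute d x)
        (fun g d x y hh => commute_cj.2 hh)
      have hg' : cj g a = y := hg
      rw [hg'] at this
      exact this
    have hss : {d | d ∈ D ∧ Commute d a} ⊆ {d | d ∈ D ∧ Commute d y} :=
      fun d hd => ⟨hd.1, hsub d hd.1 hd.2⟩
    have heq := Set.eq_of_subset_of_ncard_le hss hcard.ge (Set.toFinite _)
    refine SporadicStructure.FischerPrimitive.eq_of_commute_iff h hsol hperf ha hy ?_
    intro w hw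
    constructor
    · exact hsub w hw
    · intro hc
      have : w ∈ {d | d ∈ D ∧ Commute d a} := by rw [heq]; exact ⟨hw, hc⟩
      exact this.2
  refine ⟨h, ?_, hperp_sub, ?_, ?_, ?_, ?_, ?_, ?_⟩
  · intro g hg
    have h1 := h.mem_center_of_forall_commute hg
    rw [SporadicStructure.FischerPrimitive.center_eq_bot hsol] at h1
    exact Subgroup.mem_bot.1 h1
  · intro x hx y hy z hz hyx hzx hxy hxz
    obtain ⟨g, hg, hgy⟩ := hone x hx y ⟨hy, hyx, hxy⟩ z ⟨hz, hzx, hxz⟩
    refine ⟨g, ?_, hgy⟩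
    have hle : Subgroup.closure {y : G | y ∈ D ∧ y ≠ x ∧ Commute x y} ≤
        Subgroup.centralizer {x} := by
      rw [Subgroup.closure_le]
      rintro y ⟨-, -, hy⟩
      rw [SetLike.mem_coe, Subgroup.mem_centralizer_singleton_iff]
      exact hy.symm.eq
    exact cj_of_commute (Subgroup.mem_centralizer_singleton_iff.1 (hle hg))
  · intro x hx y hy z hz hxy hxz
    exact SporadicStructure.FischerRank3.col_trans h hsol hperf hx hy hz hxy hxz
  · intro x hx y hy hxy
    exact SporadicStructure.FischerRank3.exists_not_commute_both h hsol hperf hx hy hxy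
  · exact SporadicStructure.FischerPrimitive.exists_perp h hsol hperf
  · exact SporadicStructure.FischerPrimitive.exists_col h hsol
  · by_contra hcon
    push Not at hcon
    have hq : InvEquiv D (fun a b => a ∈ D ∧ b ∈ D ∧ Commute a b) := by
      refine ⟨fun h1 => h1.1, fun hx => ⟨hx, hx, Commute.refl _⟩,
        fun h1 => ⟨h1.2.1, h1.1, h1.2.2.symm⟩, ?_, ?_⟩
      · rintro x y z ⟨hx, hy, hxy⟩ ⟨-, hz, hyz⟩
        refine ⟨hx, hz, ?_⟩
        by_contra hxz
        exact hcon x hx z hz y hy hxz hxy.symm hyz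
      · rintro g x y ⟨hx, hy, hxy⟩
        exact ⟨h.conj g x hx, h.conj g y hy, commute_cj.2 hxy⟩
    obtain ⟨x, hx⟩ := h.nonempty
    rcases SporadicStructure.FischerPrimitive.primitive h hsol hperf hq with h1 | h1
    · obtain ⟨z, hz, hzx, hxz⟩ :=
        SporadicStructure.FischerPrimitive.exists_perp h hsol hperf x hx
      exact hzx (h1 x z ⟨hx, hz, hxz⟩).symm
    · obtain ⟨z, hz, hxz⟩ := SporadicStructure.FischerPrimitive.exists_col h hsol x hx
      exact hxz (h1 x hx z hz).2.2

end Cfsg.Agent.ThreeTransPolar.Basic
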