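import Mathlib
import Cfsg.Agent.ThreeTransPolar.Basic

set_option autoImplicit false

/-!
# Singular lines of a class of 3-transpositions, the one-or-all axiom
-/

namespace Cfsg.Agent.ThreeTransPolar.Lines

open Cfsg Cfsg.Agent.SporadicStructure.FischerSpace Cfsg.Agent.ThreeTransPolar.Basic

variable {G : Type*} [Group G] {D : Set G}

/-- an involution without fixed points -/
theorem even_ncard_of_invol {α : Type*} {S : Set α} (hfin : S.Finite) (f : α → α)
    (hmem : ∀ u ∈ S, f u ∈ S) (hinv : ∀ u ∈ S, f (f u) = u) (hne : ∀ u ∈ S, f u ≠ u) :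
    Even S.ncard := by
  classical
  rw [Set.ncard_eq_toFinset_card S hfin]
  have h1 : ∑ _x ∈ hfin.toFinset, (1 : ZMod 2) = 0 := by
    refine Finset.sum_involution (fun a _ => f a) ?_ ?_ ?_ ?_
    · intro a _; decide
    · intro a ha _; exact hne a (hfin.mem_toFinset.1 ha)
    · intro a ha; exact hfin.mem_toFinset.2 (hmem a (hfin.mem_toFinset.1 ha))
    · intro a ha; exact hinv a (hfin.mem_toFinset.1 ha)
  rw [Finset.sum_const, nsmul_eq_mul, mul_one] at h1
  exact (ZMod.natCast_eq_zero_iff_even).1 h1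

/-- The line `{x, y}^⟂⟂`. -/
def Line (D : Set G) (x y : G) : Set G :=
  {z | z ∈ D ∧ ∀ d ∈ D, Commute d x → Commute d y → Commute d z}

theorem mem_Line_left {x y : G} (hx : x ∈ D) : x ∈ Line D x y := ⟨hx, fun _ _ h _ => h⟩

theorem mem_Line_right {x y : G} (hy : y ∈ D) : y ∈ Line D x y := ⟨hy, fun _ _ _ h => h⟩

theorem Line_comm (x y : G) : Line D x y = Line D y x := by
  ext z
  exact ⟨fun h => ⟨h.1, fun d hd h1 h2 => h.2 d hd h2 h1⟩,
    fun h => ⟨h.1, fun d hd h1 h2 => h.2 d hd h2 h1⟩⟩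

theorem Line_mem {x y z : G} (hz : z ∈ Line D x y) : z ∈ D := hz.1

theorem cj_mem_Line (h : FData D) {g x y z : G} (hz : z ∈ Line D x y) :
    cj g z ∈ Line D (cj g x) (cj g y) := by
  refine ⟨cj_mem h hz.1, fun d hd h1 h2 => ?_⟩
  have h3 : Commute (cj g⁻¹ d) x := by
    rw [← cj_cj_inv g d, commute_cj] at h1; exact h1
  have h4 : Commute (cj g⁻¹ d) y := by
    rw [← cj_cj_inv g d, commute_cj] at h2; exact h2
  have h5 := hz.2 _ (cj_mem h hd) h3 h4
  rw [← cj_cj_inv g d, commute_cj]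
  exact h5

theorem cj_mem_Line_iff (h : FData D) {g x y z : G} :
    cj g z ∈ Line D (cj g x) (cj g y) ↔ z ∈ Line D x y := by
  refine ⟨fun hz => ?_, cj_mem_Line h⟩
  have := cj_mem_Line h (g := g⁻¹) hz
  rwa [cj_inv_cj, cj_inv_cj, cj_inv_cj] at this

theorem image_Line (h : FData D) (g x y : G) :
    cj g '' Line D x y = Line D (cj g x) (cj g y) := by
  ext z
  constructor
  · rintro ⟨u, hu, rfl⟩; exact cj_mem_Line h hu
  · intro hz
    refine ⟨cj g⁻¹ z, ?_, cj_cj_inv g z⟩
    have := cj_mem_Line h (g := g⁻¹) hz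
    rwa [cj_inv_cj, cj_inv_cj] at this

section

variable (R : Rk D)
include R

theorem pair_conj_com {x y z w : G} (hx : x ∈ D) (hy : y ∈ D) (hz : z ∈ D) (hw : w ∈ D)
    (hxy : x ≠ y) (hzw : z ≠ w) (hc : Commute x y) (hc' : Commute z w) :
    ∃ g : G, cj g x = z ∧ cj g y = w := by
  obtain ⟨g, hg⟩ := R.fd.single x hx z hz
  have hg' : cj g x = z := hg
  have h1 : cj g y ≠ z := by
    rw [← hg']; intro h2; exact hxy (cj_inj.1 h2).symm
  have h2 : Commute z (cj g y) := by rw [← hg', commute_cj]; exact hc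
  obtain ⟨k, hk1, hk2⟩ := R.comTrans z hz _ (cj_mem R.fd hy) w hw h1 hzw.symm h2 hc'
  exact ⟨k * g, by rw [cj_mul, hg', hk1], by rw [cj_mul, hk2]⟩

theorem pair_conj_col {x y z w : G} (hx : x ∈ D) (hy : y ∈ D) (hz : z ∈ D) (hw : w ∈ D)
    (hc : ¬ Commute x y) (hc' : ¬ Commute z w) :
    ∃ g : G, cj g x = z ∧ cj g y = w := by
  obtain ⟨g, hg⟩ := R.fd.single x hx z hz
  have hg' : cj g x = z := hg
  have h2 : ¬ Commute z (cj g y) := by rw [← hg', commute_cj]; exact hc
  obtain ⟨k, hk1, hk2⟩ := R.colTrans z hz _ (cj_mem R.fd hy) w hw h2 hc'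
  exact ⟨k * g, by rw [cj_mul, hg', hk1], by rw [cj_mul, hk2]⟩

theorem ncard_perp2_eq {x y z w g : G} (hg1 : cj g x = z) (hg2 : cj g y = w) :
    {d | d ∈ D ∧ (Commute d x ∧ Commute d y)}.ncard =
      {d | d ∈ D ∧ (Commute d z ∧ Commute d w)}.ncard := by
  have := ncard_conj_eq R.fd (x := x) (y := y) (g := g)
    (fun d x y => Commute d x ∧ Commute d y)
    (fun g d x y hh => ⟨commute_cj.2 hh.1, commute_cj.2 hh.2⟩)
  rwa [hg1, hg2] at this

/-- comparison of `{x,y}^⟂` and `{z,w}^⟂` -/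
theorem perp2_iff [Finite G] {x y z w g : G} (hg1 : cj g x = z) (hg2 : cj g y = w)
    (hsub : ∀ d ∈ D, Commute d x → Commute d y → Commute d z ∧ Commute d w) :
    ∀ d ∈ D, (Commute d x ∧ Commute d y) ↔ (Commute d z ∧ Commute d w) := by
  have hss : {d | d ∈ D ∧ (Commute d x ∧ Commute d y)} ⊆
      {d | d ∈ D ∧ (Commute d z ∧ Commute d w)} :=
    fun d hd => ⟨hd.1, hsub d hd.1 hd.2.1 hd.2.2⟩
  have heq := Set.eq_of_subset_of_ncard_le hss (ncard_perp2_eq R hg1 hg2).ge (Set.toFinite _)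
  intro d hd
  constructor
  · rintro ⟨h1, h2⟩; exact hsub d hd h1 h2
  · rintro ⟨h1, h2⟩
    have : d ∈ {d | d ∈ D ∧ (Commute d x ∧ Commute d y)} := by rw [heq]; exact ⟨hd, h1, h2⟩
    exact this.2

omit R in
theorem Line_commute {x y z z' : G} (hx : x ∈ D) (hy : y ∈ D) (hc : Commute x y)
    (hz : z ∈ Line D x y) (hz' : z' ∈ Line D x y) : Commute z z' := by
  refine hz'.2 z hz.1 ?_ ?_
  · exact (hz.2 x hx (Commute.refl x) hc).symm
  · exact (hz.2 y hy hc.symm (Commute.refl y)).symm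

theorem perp_Line_iff [Finite G] {x y z z' : G} (hx : x ∈ D) (hy : y ∈ D) (hxy : x ≠ y)
    (hc : Commute x y) (hz : z ∈ Line D x y) (hz' : z' ∈ Line D x y) (hne : z ≠ z') :
    ∀ d ∈ D, (Commute d x ∧ Commute d y) ↔ (Commute d z ∧ Commute d z') := by
  obtain ⟨g, hg1, hg2⟩ := pair_conj_com R hx hy hz.1 hz'.1 hxy hne hc
    (Line_commute hx hy hc hz hz')
  exact perp2_iff R hg1 hg2 (fun d hd h1 h2 => ⟨hz.2 d hd h1 h2, hz'.2 d hd h1 h2⟩)

theorem Line_eq [Finite G] {x y z z' : G} (hx : x ∈ D) (hy : y ∈ D) (hxy : x ≠ y)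
    (hc : Commute x y) (hz : z ∈ Line D x y) (hz' : z' ∈ Line D x y) (hne : z ≠ z') :
    Line D z z' = Line D x y := by
  have h1 := perp_Line_iff R hx hy hxy hc hz hz' hne
  ext u
  constructor
  · rintro ⟨hu, h2⟩
    exact ⟨hu, fun d hd h3 h4 => h2 d hd ((h1 d hd).1 ⟨h3, h4⟩).1 ((h1 d hd).1 ⟨h3, h4⟩).2⟩
  · rintro ⟨hu, h2⟩
    exact ⟨hu, fun d hd h3 h4 => h2 d hd ((h1 d hd).2 ⟨h3, h4⟩).1 ((h1 d hd).2 ⟨h3, h4⟩).2⟩

/-- a point commuting with two points of a line commutes with all of it -/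
theorem commute_of_two [Finite G] {x y z z' d u : G} (hx : x ∈ D) (hy : y ∈ D) (hxy : x ≠ y)
    (hc : Commute x y) (hz : z ∈ Line D x y) (hz' : z' ∈ Line D x y) (hne : z ≠ z')
    (hd : d ∈ D) (h1 : Commute d z) (h2 : Commute d z') (hu : u ∈ Line D x y) : Commute d u := by
  have h3 := (perp_Line_iff R hx hy hxy hc hz hz' hne d hd).2 ⟨h1, h2⟩
  exact hu.2 d hd h3.1 h3.2

theorem ncard_Line_eq {x y z w : G} (hx : x ∈ D) (hy : y ∈ D) (hz : z ∈ D) (hw : w ∈ D)
    (hxy : x ≠ y) (hzw : z ≠ w) (hc : Commute x y) (hc' : Commute z w) :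
    (Line D x y).ncard = (Line D z w).ncard := by
  obtain ⟨g, hg1, hg2⟩ := pair_conj_com R hx hy hz hw hxy hzw hc hc'
  rw [← Set.ncard_image_of_injective _ (cj_injective g), image_Line R.fd, hg1, hg2]

/-- the key trick: `cj (y z) w` lies on the line through `x` and `w` -/
theorem cj_mul_mem_Line [Finite G] {x y z w : G} (hx : x ∈ D) (hy : y ∈ D) (hw : w ∈ D)
    (hxy : x ≠ y) (hc : Commute x y) (hcw : Commute x w) (hz : z ∈ Line D x y) (hzx : z ≠ x) :
    cj (y * z) w ∈ Line D x w := by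
  by_cases hwy : Commute w y
  · have hwz : Commute w z := hz.2 w hw hcw.symm hwy
    rw [cj_mul, cj_of_commute hwz.symm, cj_of_commute hwy.symm]
    exact mem_Line_right hw
  · have hwz : ¬ Commute w z := fun h1 => hwy
      (commute_of_two R hx hy hxy hc (mem_Line_left hx) hz hzx.symm hw hcw.symm h1
        (mem_Line_right hy))
    have h1 := cj_mem_Line R.fd (g := w) hz
    rw [cj_of_commute hcw.symm, third_comm R.fd hw hz.1 hwz, third_comm R.fd hw hy hwy] at h1
    have h2 := cj_mem_Line R.fd (g := y) h1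
    rw [cj_of_commute hc.symm, cj_cj_self R.fd hy] at h2
    rw [cj_mul]
    exact h2

end

/-- two commuting different `y, z` commuting with neither of ... -/
theorem cj_mul_ne (h : FData D) {y z w : G} (hy : y ∈ D) (hz : z ∈ D) (hw : w ∈ D) (hyz : y ≠ z)
    (hwy : ¬ Commute w y) (hwz : ¬ Commute w z) : cj (y * z) w ≠ w := by
  rw [cj_mul]
  exact s4_ne h hy hz hw hyz hwy hwz

theorem cj_mul_cj_mul (h : FData D) {y z : G} (hy : y ∈ D) (hz : z ∈ D) (hyz : Commute y z)
    (w : G) : cj (y * z) (cj (y * z) w) = w := by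
  rw [← cj_mul]
  have : y * z * (y * z) = 1 := by
    calc y * z * (y * z) = y * (z * y) * z := by group
      _ = y * (y * z) * z := by rw [hyz.eq]
      _ = (y * y) * (z * z) := by group
      _ = 1 := by rw [h.sq y hy, h.sq z hz, one_mul]
  rw [this, cj_one]

/-- The hypothesis that lines have at least three points. -/
structure Thick (D : Set G) : Prop extends Rk D where
  third : ∀ x ∈ D, ∀ y ∈ D, x ≠ y → Commute x y → ∃ z ∈ Line D x y, z ≠ x ∧ z ≠ y

section thick

variable [Finite G] (T : Thick D)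
include T

/-- Lines have an odd number of points. -/
theorem odd_ncard {x y : G} (hx : x ∈ D) (hy : y ∈ D) (hxy : x ≠ y) (hc : Commute x y) :
    Odd (Line D x y).ncard := by
  have R := T.toRk
  have h := R.fd
  -- a line `x w` and `y ⟂ x` not commuting with `w`
  obtain ⟨w, hw, hwx, hxw⟩ : ∃ w ∈ D, Commute w x ∧ ¬ Commute w y := by
    by_contra hcon
    push Not at hcon
    exact hxy (R.perp_sub x hx y hy hcon)
  have hwne : w ≠ x := by rintro rfl; exact hxw hc
  rw [ncard_Line_eq R hx hy hx hw hxy hwne.symm hc hwx.symm]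
  obtain ⟨z, hz, hzx, hzy⟩ := T.third x hx y hy hxy hc
  have hyz : Commute y z := Line_commute hx hy hc (mem_Line_right hy) hz
  have hwz : ∀ u ∈ Line D x w, u ≠ x → ¬ Commute u y ∧ ¬ Commute u z := by
    intro u hu hux
    have huy : ¬ Commute u y := by
      intro h1
      exact hxw (commute_of_two R hx hw hwne.symm hwx.symm (mem_Line_left hx) hu hux.symm hy
        hc.symm h1.symm (mem_Line_right hw)).symm
    refine ⟨huy, fun h1 => huy ?_⟩
    have hux' : Commute u x := Line_commute hx hw hwx.symm hu (mem_Line_left hx)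
    exact commute_of_two R hx hy hxy hc (mem_Line_left hx) hz hzx.symm hu.1 hux' h1
      (mem_Line_right hy)
  have hev : Even (Line D x w \ {x}).ncard := by
    apply even_ncard_of_invol (Set.toFinite _) (fun u => cj (y * z) u)
    · rintro u ⟨hu, hux⟩
      have hux' : u ≠ x := hux
      have hxu : Commute x u := Line_commute hx hw hwx.symm (mem_Line_left hx) hu
      refine ⟨?_, ?_⟩
      · have := cj_mul_mem_Line R hx hy hu.1 hxy hc hxu hz hzx
        rwa [Line_eq R hx hw hwne.symm hwx.symm (mem_Line_left hx) hu hux'.symm] at this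
      · intro h1
        apply hux'
        have h2 : cj (y * z) x = x := by
          rw [cj_mul, cj_of_commute (Line_commute hx hy hc hz (mem_Line_left hx)),
            cj_of_commute hc.symm]
        have h3 : cj (y * z) u = cj (y * z) x := by rw [h2]; exact h1
        exact cj_inj.1 h3
    · rintro u ⟨hu, hux⟩
      exact cj_mul_cj_mul h hy hz.1 hyz u
    · rintro u ⟨hu, hux⟩
      exact cj_mul_ne h hy hz.1 hu.1 hzy.symm (hwz u hu hux).1 (hwz u hu hux).2
  have hcard : (Line D x w \ {x}).ncard + 1 = (Line D x w).ncard :=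
    Set.ncard_diff_singleton_add_one (mem_Line_left hx) (Set.toFinite _)
  rw [← hcard]
  exact hev.add_one

theorem image_cj_mul_Line {x y w z z' : G} (hx : x ∈ D) (hy : y ∈ D) (hxy : x ≠ y)
    (hc : Commute x y) (hw : w ∈ D) (hz : z ∈ Line D x y) (hz' : z' ∈ Line D x y) (hne : z ≠ z')
    (hwz : ¬ Commute w z) :
    cj (z * w) '' Line D x y = Line D w (cj (z * w) z') := by
  have R := T.toRk
  rw [← Line_eq R hx hy hxy hc hz hz' hne, image_Line R.fd]
  congr 1
  rw [cj_mul, third_comm R.fd hw hz.1 hwz, cj_cj_self R.fd hz.1]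

/-- One or all axiom. -/
theorem exists_commute {x y w : G} (hx : x ∈ D) (hy : y ∈ D) (hxy : x ≠ y) (hc : Commute x y)
    (hw : w ∈ D) : ∃ z ∈ Line D x y, Commute w z := by
  have R := T.toRk
  have h := R.fd
  by_contra hcon
  push Not at hcon
  have hwx := hcon x (mem_Line_left hx)
  have hwy := hcon y (mem_Line_right hy)
  have e1 := image_cj_mul_Line T hx hy hxy hc hw (mem_Line_left hx) (mem_Line_right hy) hxy hwx
  have e2 := image_cj_mul_Line T hx hy hxy hc hw (mem_Line_right hy) (mem_Line_left hx) hxy.symm hwy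
  have e3 : cj (x * w) y = cj (y * w) x := by
    rw [cj_mul, cj_mul, third_comm h hw hy hwy, third_comm h hw hx hwx, ← cj_mul, ← cj_mul, hc.eq]
  rw [← e3, ← e1] at e2
  -- `e2 : cj (y w) '' ℓ = cj (x w) '' ℓ`
  set S := cj (x * w) '' Line D x y with hS
  have hev : Even S.ncard := by
    have hnc : ∀ u ∈ S, u ∈ D ∧ ¬ Commute u x ∧ ¬ Commute u y := by
      rintro u ⟨z, hz, rfl⟩
      have hwz := hcon z hz
      have e : cj (x * w) z = cj x (cj z w) := by rw [cj_mul, third_comm h hw hz.1 hwz]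
      refine ⟨cj_mem h hz.1, ?_, ?_⟩
      · rw [e, commute_cj_left' h hx, cj_self, commute_cj_left' h hz.1,
          cj_of_commute (Line_commute hx hy hc hz (mem_Line_left hx))]
        exact hwx
      · rw [e, commute_cj_left' h hx, cj_of_commute hc, commute_cj_left' h hz.1,
          cj_of_commute (Line_commute hx hy hc hz (mem_Line_right hy))]
        exact hwy
    apply even_ncard_of_invol (Set.toFinite _) (fun u => cj (x * y) u)
    · intro u hu
      rw [← e2] at hu
      obtain ⟨z, hz, rfl⟩ := hu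
      refine ⟨z, hz, ?_⟩
      show cj (x * w) z = cj (x * y) (cj (y * w) z)
      rw [← cj_mul]
      congr 1
      calc x * w = x * (y * y) * w := by rw [h.sq y hy, mul_one]
        _ = x * y * (y * w) := by group
    · intro u hu
      exact cj_mul_cj_mul h hx hy hc u
    · intro u hu
      obtain ⟨h1, h2, h3⟩ := hnc u hu
      exact cj_mul_ne h hx hy h1 hxy h2 h3
  have hcard : S.ncard = (Line D x y).ncard :=
    Set.ncard_image_of_injective _ (cj_injective _)
  rw [hcard] at hev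
  exact (Nat.not_even_iff_odd.2 (odd_ncard T hx hy hxy hc)) hev

/-- For `w` commuting with exactly the point `q` of a line `ℓ`: the elements `z z'` of `ℓ` map
`w` into the line `w q`. -/
theorem cj_mul_mem {x y w q z z' : G} (hx : x ∈ D) (hy : y ∈ D) (hxy : x ≠ y)
    (hc : Commute x y) (hw : w ∈ D) (hq : q ∈ Line D x y) (hz : z ∈ Line D x y)
    (hz' : z' ∈ Line D x y) (hwq : Commute w q) (hwz : ¬ Commute w z) (hwz' : ¬ Commute w z') :
    cj (z * z') w ∈ Line D w q := by
  have R := T.toRk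
  have h := R.fd
  have hzq : z ≠ q := by rintro rfl; exact hwz hwq
  have e1 := image_cj_mul_Line T hx hy hxy hc hw hz hq hzq hwz
  have e2 : cj (z * w) q = q := by
    rw [cj_mul, cj_of_commute hwq, cj_of_commute (Line_commute hx hy hc hz hq)]
  rw [e2] at e1
  have : cj (z * w) z' ∈ cj (z * w) '' Line D x y := ⟨z', hz', rfl⟩
  rw [e1] at this
  rwa [cj_mul, third_comm h hw hz'.1 hwz', ← cj_mul] at this

theorem exists_cj_mul_eq {x y w q z u : G} (hx : x ∈ D) (hy : y ∈ D) (hxy : x ≠ y)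
    (hc : Commute x y) (hw : w ∈ D) (hq : q ∈ Line D x y) (hz : z ∈ Line D x y)
    (hwq : Commute w q) (hwz : ¬ Commute w z) (hu : u ∈ Line D w q) (huq : u ≠ q) :
    ∃ z' ∈ Line D x y, ¬ Commute w z' ∧ cj (z * z') w = u := by
  have R := T.toRk
  have h := R.fd
  have hzq : z ≠ q := by rintro rfl; exact hwz hwq
  have e1 := image_cj_mul_Line T hx hy hxy hc hw hz hq hzq hwz
  have e2 : cj (z * w) q = q := by
    rw [cj_mul, cj_of_commute hwq, cj_of_commute (Line_commute hx hy hc hz hq)]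
  rw [e2] at e1
  rw [← e1] at hu
  obtain ⟨z', hz', rfl⟩ := hu
  have hz'q : z' ≠ q := by
    rintro rfl
    exact huq e2
  have hwz' : ¬ Commute w z' := fun h1 => hwz
    (commute_of_two R hx hy hxy hc hq hz' hz'q.symm hw hwq h1 hz)
  exact ⟨z', hz', hwz', by rw [cj_mul, cj_mul, third_comm h hw hz'.1 hwz']⟩

end thick

end Cfsg.Agent.ThreeTransPolar.Lines
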