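import Mathlib
import Cfsg.Agent.ThreeTransPolar.Lines

set_option autoImplicit false

/-!
# Lines have three or five points
-/

namespace Cfsg.Agent.ThreeTransPolar.Bound

open Cfsg Cfsg.Agent.SporadicStructure.FischerSpace Cfsg.Agent.ThreeTransPolar.Basic
open Cfsg.Agent.ThreeTransPolar.Lines

variable {G : Type*} [Group G] {D : Set G}

/-! ### `⟨x^⟂⟩` is transitive on the members not commuting with `x` -/

/-- conjugate under `⟨x^⟂⟩` -/
def MC (D : Set G) (x a b : G) : Prop := ∃ g ∈ M D x, cj g a = b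

theorem MC.symm {x a b : G} (h : MC D x a b) : MC D x b a := by
  obtain ⟨g, hg, rfl⟩ := h
  exact ⟨g⁻¹, inv_mem hg, cj_inv_cj g a⟩

theorem MC.trans {x a b c : G} (h : MC D x a b) (h' : MC D x b c) : MC D x a c := by
  obtain ⟨g, hg, rfl⟩ := h
  obtain ⟨k, hk, rfl⟩ := h'
  exact ⟨k * g, mul_mem hk hg, cj_mul k g a⟩

theorem MC.of_commute (h : FData D) {x a b : G} (hx : x ∈ D) (ha : a ∈ D) (hb : b ∈ D)
    (hxa : ¬ Commute x a) (hxb : ¬ Commute x b) (hab : Commute a b) : MC D x a b :=
  ⟨x * cj a (cj b x), mul_mem (mem_M_of hx (Commute.refl x))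
    (mem_M_of (cj_mem h (cj_mem h hx)) (s4_commute h ha hb hx hab hxa hxb).symm),
    s4_conj h ha hb hx hab hxa hxb⟩

theorem perp_of_not_MC [Finite G] (R : Rk D) {x a b : G} (hx : x ∈ D) (ha : a ∈ D) (hb : b ∈ D)
    (hxa : ¬ Commute x a) (hxb : ¬ Commute x b) (hab : ¬ MC D x a b) :
    ∀ d ∈ D, (Commute d x ∧ Commute d a) ↔ (Commute d x ∧ Commute d b) := by
  have h := R.fd
  have hab' : ¬ Commute a b := fun h1 => hab (MC.of_commute h hx ha hb hxa hxb h1)
  have key : ∀ d ∈ D, Commute d a → Commute d b → Commute d x := by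
    intro d hd h1 h2
    by_contra h3
    have h3' : ¬ Commute x d := fun h4 => h3 h4.symm
    exact hab ((MC.of_commute h hx ha hd hxa h3' h1.symm).trans
      (MC.of_commute h hx hd hb h3' hxb h2))
  obtain ⟨g, hg1, hg2⟩ := pair_conj_col R ha hb hx ha hab' hxa
  have e1 := perp2_iff R hg1 hg2 (fun d hd h1 h2 => ⟨key d hd h1 h2, h1⟩)
  obtain ⟨k, hk1, hk2⟩ := pair_conj_col R ha hb hx hb hab' hxb
  have e2 := perp2_iff R hk1 hk2 (fun d hd h1 h2 => ⟨key d hd h1 h2, h2⟩)
  intro d hd
  rw [← e1 d hd, ← e2 d hd]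

/-- `⟨x^⟂⟩` is transitive on the members of `D` not commuting with `x`. -/
theorem M_trans [Finite G] (R : Rk D) {x a b : G} (hx : x ∈ D) (ha : a ∈ D) (hb : b ∈ D)
    (hxa : ¬ Commute x a) (hxb : ¬ Commute x b) : ∃ g ∈ M D x, cj g a = b := by
  by_contra hcon
  have hab : ¬ MC D x a b := hcon
  have hall : ∀ c ∈ D, ¬ Commute x c → ∀ d ∈ D, Commute d x → Commute d a → Commute d c := by
    intro c hc hxc d hd h1 h2
    by_cases hac : MC D x a c
    · have hbc : ¬ MC D x b c := fun h3 => hab (hac.trans h3.symm)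
      have h4 := (perp_of_not_MC R hx ha hb hxa hxb hab d hd).1 ⟨h1, h2⟩
      exact ((perp_of_not_MC R hx hb hc hxb hxc hbc d hd).1 h4).2
    · exact ((perp_of_not_MC R hx ha hc hxa hxc hac d hd).1 ⟨h1, h2⟩).2
  -- a common neighbour of `x` and `a`
  obtain ⟨p, hp, w, hw, d, hd, hpw, hdp, hdw⟩ := R.exNonPerp
  obtain ⟨g, hg1, hg2⟩ := pair_conj_col R hp hw hx ha hpw hxa
  have h1 : Commute (cj g d) x := by rw [← hg1, commute_cj]; exact hdp
  have h2 : Commute (cj g d) a := by rw [← hg2, commute_cj]; exact hdw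
  obtain ⟨u, hu, hux, hud⟩ := R.both x hx _ (cj_mem R.fd hd) h1.symm
  exact hud (hall u hu (fun h3 => hux h3.symm) _ (cj_mem R.fd hd) h1 h2).symm

/-! ### The group generated by the points of a line -/

theorem commute_of_mem_closure {S : Set G} {g d : G} (hg : g ∈ Subgroup.closure S)
    (hd : ∀ s ∈ S, Commute s d) : Commute g d := by
  have hle : Subgroup.closure S ≤ Subgroup.centralizer {d} := by
    rw [Subgroup.closure_le]
    intro y hy
    rw [SetLike.mem_coe, Subgroup.mem_centralizer_singleton_iff]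
    exact (hd y hy).eq
  exact Subgroup.mem_centralizer_singleton_iff.1 (hle hg)

/-- even elements with respect to the point `q` -/
def Ev (L : Set G) (q : G) : Subgroup G :=
  Subgroup.closure ({g | ∃ z ∈ L, ∃ z' ∈ L, z ≠ q ∧ z' ≠ q ∧ g = z * z'} ∪ {q})

theorem mul_mem_Ev {L : Set G} {q z z' : G} (hz : z ∈ L) (hz' : z' ∈ L) (h1 : z ≠ q) (h2 : z' ≠ q) :
    z * z' ∈ Ev L q := Subgroup.subset_closure (Or.inl ⟨z, hz, z', hz', h1, h2, rfl⟩)

theorem self_mem_Ev {L : Set G} {q : G} : q ∈ Ev L q := Subgroup.subset_closure (Or.inr rfl)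

section

variable [Finite G] (T : Thick D)
include T

/-- every element of `⟨ℓ⟩` is even or odd with respect to `q` -/
theorem even_or_odd {x y q z0 e : G} (hx : x ∈ D) (hy : y ∈ D) (hc : Commute x y)
    (hz0 : z0 ∈ Line D x y) (hne : z0 ≠ q) (he : e ∈ Subgroup.closure (Line D x y)) :
    e ∈ Ev (Line D x y) q ∨ z0 * e ∈ Ev (Line D x y) q := by
  have h := T.fd
  have hcomm : ∀ g ∈ Subgroup.closure (Line D x y), Commute g z0 := fun g hg =>
    commute_of_mem_closure hg (fun s hs => Line_commute hx hy hc hs hz0)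
  induction he using Subgroup.closure_induction with
  | mem z hz =>
    by_cases hzq : z = q
    · left; rw [hzq]; exact self_mem_Ev
    · right; exact mul_mem_Ev hz0 hz hne hzq
  | one => left; exact one_mem _
  | mul a b ha hb iha ihb =>
    have ca := hcomm a ha
    rcases iha with h1 | h1 <;> rcases ihb with h2 | h2
    · left; exact mul_mem h1 h2
    · right
      have e : z0 * (a * b) = a * (z0 * b) := by rw [← mul_assoc, ← ca.eq, mul_assoc]
      rw [e]; exact mul_mem h1 h2
    · right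
      have e : z0 * (a * b) = (z0 * a) * b := by rw [mul_assoc]
      rw [e]; exact mul_mem h1 h2
    · left
      have e : a * b = (z0 * a) * (z0 * b) := by
        calc a * b = a * (z0 * z0) * b := by rw [h.sq z0 hz0.1, mul_one]
          _ = (a * z0) * (z0 * b) := by group
          _ = (z0 * a) * (z0 * b) := by rw [ca.eq]
      rw [e]; exact mul_mem h1 h2
  | inv a ha iha =>
    have ca := hcomm a ha
    rcases iha with h1 | h1
    · left; exact inv_mem h1
    · right
      have e : z0 * a⁻¹ = (z0 * a)⁻¹ := by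
        rw [mul_inv_rev, h.inv_eq hz0.1]
        exact ca.inv_left.eq.symm
      rw [e]; exact inv_mem h1

/-- even elements preserve the lines on `q` that are not perpendicular to `ℓ` -/
theorem even_mem {x y q e : G} (hx : x ∈ D) (hy : y ∈ D) (hxy : x ≠ y) (hc : Commute x y)
    (hq : q ∈ Line D x y) (he : e ∈ Ev (Line D x y) q) :
    ∀ w ∈ D, Commute w q → (∃ z ∈ Line D x y, ¬ Commute w z) →
      cj e w ∈ Line D w q ∧ cj e⁻¹ w ∈ Line D w q := by
  have R := T.toRk
  have h := T.fd
  -- points of such a line satisfy the hypotheses again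
  have key : ∀ w ∈ D, Commute w q → (∃ z ∈ Line D x y, ¬ Commute w z) → ∀ u ∈ Line D w q, u ≠ q →
      Commute u q ∧ (∃ z ∈ Line D x y, ¬ Commute u z) ∧ Line D u q = Line D w q := by
    intro w hw hwq hwz u hu huq
    have hwq' : w ≠ q := by
      rintro rfl
      obtain ⟨z, hz, hwz⟩ := hwz
      exact hwz (Line_commute hx hy hc hq hz)
    have e1 : Line D u q = Line D w q :=
      Line_eq R hw hq.1 hwq' hwq hu (mem_Line_right hq.1) huq
    have e2 : Commute u q := Line_commute hw hq.1 hwq hu (mem_Line_right hq.1)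
    refine ⟨e2, ?_, e1⟩
    obtain ⟨z, hz, hwz⟩ := hwz
    refine ⟨z, hz, fun h1 => hwz ?_⟩
    have h2 : w ∈ Line D u q := by rw [e1]; exact mem_Line_left hw
    exact (h2.2 z hz.1 h1.symm (Line_commute hx hy hc hz hq)).symm
  induction he using Subgroup.closure_induction with
  | mem g hg =>
    intro w hw hwq hwz
    rcases hg with ⟨z, hz, z', hz', h1, h2, rfl⟩ | hg
    · have hnc : ∀ u ∈ Line D x y, u ≠ q → ¬ Commute w u := by
        intro u hu huq h3
        obtain ⟨v, hv, hwv⟩ := hwz
        exact hwv (commute_of_two R hx hy hxy hc hu hq huq hw h3 hwq hv)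
      refine ⟨cj_mul_mem T hx hy hxy hc hw hq hz hz' hwq (hnc z hz h1) (hnc z' hz' h2), ?_⟩
      rw [mul_inv_rev, h.inv_eq hz.1, h.inv_eq hz'.1]
      exact cj_mul_mem T hx hy hxy hc hw hq hz' hz hwq (hnc z' hz' h2) (hnc z hz h1)
    · rw [Set.mem_singleton_iff] at hg
      subst hg
      rw [h.inv_eq hq.1, cj_of_commute hwq.symm]
      exact ⟨mem_Line_left hw, mem_Line_left hw⟩
  | one =>
    intro w hw hwq hwz
    rw [inv_one, cj_one]
    exact ⟨mem_Line_left hw, mem_Line_left hw⟩
  | mul a b ha hb iha ihb =>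
    intro w hw hwq hwz
    have hqL : ∀ g ∈ Ev (Line D x y) q, cj g q = q := by
      intro g hg
      apply cj_of_commute
      refine commute_of_mem_closure hg ?_
      rintro s (⟨z, hz, z', hz', -, -, rfl⟩ | hs)
      · exact (Line_commute hx hy hc hz hq).mul_left (Line_commute hx hy hc hz' hq)
      · rw [Set.mem_singleton_iff] at hs; rw [hs]
    have hne : ∀ g ∈ Ev (Line D x y) q, cj g w ≠ q := by
      intro g hg h1
      rw [← hqL g hg] at h1
      have := cj_inj.1 h1
      obtain ⟨z, hz, hwz⟩ := hwz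
      exact hwz (by rw [this]; exact Line_commute hx hy hc hq hz)
    obtain ⟨b1, b2⟩ := ihb w hw hwq hwz
    obtain ⟨a1, a2⟩ := iha w hw hwq hwz
    obtain ⟨c1, c2, c3⟩ := key w hw hwq hwz _ b1 (hne b hb)
    obtain ⟨d1, d2, d3⟩ := key w hw hwq hwz _ a2 (hne a⁻¹ (inv_mem ha))
    constructor
    · rw [cj_mul, ← c3]
      exact (iha _ b1.1 c1 c2).1
    · rw [mul_inv_rev, cj_mul, ← d3]
      exact (ihb _ a2.1 d1 d2).2
  | inv a ha iha =>
    intro w hw hwq hwz
    rw [inv_inv]
    exact (iha w hw hwq hwz).symm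

/-- odd elements move the points off the line -/
theorem odd_not_mem {x y q z0 e w : G} (hx : x ∈ D) (hy : y ∈ D) (hxy : x ≠ y) (hc : Commute x y)
    (hq : q ∈ Line D x y) (hz0 : z0 ∈ Line D x y) (hne : z0 ≠ q)
    (he : z0 * e ∈ Ev (Line D x y) q) (hw : w ∈ D) (hwq : Commute w q)
    (hwz : ∃ z ∈ Line D x y, ¬ Commute w z) (heq : cj e q = q) : cj e w ∉ Line D w q := by
  have R := T.toRk
  have h := T.fd
  intro hmem
  obtain ⟨h1, -⟩ := even_mem T hx hy hxy hc hq he w hw hwq hwz
  have hwq' : w ≠ q := by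
    rintro rfl
    obtain ⟨z, hz, hwz⟩ := hwz
    exact hwz (Line_commute hx hy hc hq hz)
  have h2 : Commute (cj e w) (cj (z0 * e) w) :=
    Line_commute hw hq.1 hwq hmem h1
  rw [cj_mul, Commute.symm_iff] at h2
  have h3 : Commute (cj e w) z0 := by
    by_contra h3
    exact not_commute_third h (cj_mem h hw) h3 (by
      rw [← third_comm h hz0.1 (cj_mem h hw) (fun h4 => h3 h4.symm)]; exact h2)
  -- `cj e w ≠ q`
  have h4 : cj e w ≠ q := by
    intro h4
    rw [← heq] at h4
    exact hwq' (cj_inj.1 h4)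
  have h5 : Commute z0 w :=
    commute_of_two R hw hq.1 hwq' hwq hmem (mem_Line_right hq.1) h4 hz0.1 h3.symm
      (Line_commute hx hy hc hz0 hq) (mem_Line_left hw)
  obtain ⟨z, hz, hwz⟩ := hwz
  exact hwz (commute_of_two R hx hy hxy hc hz0 hq hne hw h5.symm hwq hz)

/-- The centraliser in `⟨ℓ⟩` of a point perpendicular to exactly one point `y0` of `ℓ` is
`⟨y0⟩`. -/
theorem centralizer_point {x y y0 a e : G} (hx : x ∈ D) (hy : y ∈ D) (hxy : x ≠ y)
    (hc : Commute x y) (hy0 : y0 ∈ Line D x y) (ha : a ∈ D) (hay : Commute a y0)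
    (haz : ∃ z ∈ Line D x y, ¬ Commute a z) (he : e ∈ Subgroup.closure (Line D x y))
    (hea : Commute e a) : e = 1 ∨ e = y0 := by
  have R := T.toRk
  have h := T.fd
  have hay0 : a ≠ y0 := by
    rintro rfl
    obtain ⟨z, hz, hwz⟩ := haz
    exact hwz (Line_commute hx hy hc hy0 hz)
  -- a point `w ⟂ a` with `w` not perpendicular to `y0`
  obtain ⟨w, hw, hwa, hwy⟩ : ∃ w ∈ D, Commute w a ∧ ¬ Commute w y0 := by
    by_contra hcon
    push Not at hcon
    exact hay0 (R.perp_sub a ha y0 hy0.1 hcon)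
  obtain ⟨q, hq, hwq⟩ := exists_commute T hx hy hxy hc hw
  have hqy : q ≠ y0 := by rintro rfl; exact hwy hwq
  have haq : ¬ Commute a q := by
    intro h1
    obtain ⟨z, hz, hwz⟩ := haz
    exact hwz (commute_of_two R hx hy hxy hc hq hy0 hqy ha h1 hay hz)
  have hclo : ∀ z ∈ Line D x y, ∀ g ∈ Subgroup.closure (Line D x y), Commute g z := fun z hz g hg =>
    commute_of_mem_closure hg (fun s hs => Line_commute hx hy hc hs hz)
  -- an even element fixing `a` is trivial
  have main : ∀ e ∈ Subgroup.closure (Line D x y), Commute e a → e ∈ Ev (Line D x y) q → e = 1 := by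
    intro e he hea heq
    obtain ⟨h1, -⟩ := even_mem T hx hy hxy hc hq heq w hw hwq ⟨y0, hy0, hwy⟩
    have hwq' : w ≠ q := by rintro rfl; exact hwy (Line_commute hx hy hc hq hy0)
    have h2 : cj e w = w := by
      by_contra h2
      apply haq
      have h3 : Commute a (cj e w) := by
        have : Commute (cj e a) (cj e w) := commute_cj.2 hwa.symm
        rwa [cj_of_commute hea] at this
      exact commute_of_two R hw hq.1 hwq' hwq h1 (mem_Line_left hw) h2 ha h3 hwa.symm
        (mem_Line_right hq.1)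
    -- `e` is even with respect to `y0`
    have hey0 : cj e y0 = y0 := cj_of_commute (hclo y0 hy0 e he)
    have hey : e ∈ Ev (Line D x y) y0 := by
      rcases even_or_odd T hx hy hc hq hqy he with h3 | h3
      · exact h3
      · exfalso
        have := odd_not_mem T hx hy hxy hc hy0 hq hqy h3 ha hay haz hey0
        rw [cj_of_commute hea] at this
        exact this (mem_Line_left ha)
    -- `e` centralises `y0^⟂`
    have hperp : ∀ b ∈ D, Commute b y0 → Commute e b := by
      intro b hb hby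
      by_cases hbl : ∀ z ∈ Line D x y, Commute b z
      · exact commute_of_mem_closure he (fun s hs => (hbl s hs).symm)
      · push Not at hbl
        have hbne : b ≠ y0 := by
          rintro rfl
          obtain ⟨z, hz, hwz⟩ := hbl
          exact hwz (Line_commute hx hy hc hy0 hz)
        obtain ⟨b0, hb0, hwb0⟩ := exists_commute T hb hy0.1 hbne hby hw
        have hb0y : b0 ≠ y0 := by rintro rfl; exact hwy hwb0
        have e1 : Line D b0 y0 = Line D b y0 :=
          Line_eq R hb hy0.1 hbne hby hb0 (mem_Line_right hy0.1) hb0y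
        have hb0c : Commute b0 y0 := Line_commute hb hy0.1 hby hb0 (mem_Line_right hy0.1)
        have hb0l : ∃ z ∈ Line D x y, ¬ Commute b0 z := by
          obtain ⟨z, hz, hbz⟩ := hbl
          refine ⟨z, hz, fun h3 => hbz ?_⟩
          have h4 : b ∈ Line D b0 y0 := by rw [e1]; exact mem_Line_left hb
          exact (h4.2 z hz.1 h3.symm (Line_commute hx hy hc hz hy0)).symm
        obtain ⟨h3, -⟩ := even_mem T hx hy hxy hc hy0 hey b0 hb0.1 hb0c hb0l
        have h4 : cj e b0 = b0 := by
          by_contra h4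
          apply hwy
          have h5 : Commute w (cj e b0) := by
            have : Commute (cj e w) (cj e b0) := commute_cj.2 hwb0
            rwa [h2] at this
          exact commute_of_two R hb0.1 hy0.1 hb0y hb0c h3 (mem_Line_left hb0.1) h4 hw h5 hwb0
            (mem_Line_right hy0.1)
        -- now `b = cj (z z') b0`
        obtain ⟨z, hz, hbz⟩ := hb0l
        have hbL : b ∈ Line D b0 y0 := by rw [e1]; exact mem_Line_left hb
        obtain ⟨z', hz', -, h6⟩ := exists_cj_mul_eq T hx hy hxy hc hb0.1 hy0 hz hb0c hbz hbL hbne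
        rw [← cj_eq_self_iff, ← h6, ← cj_mul]
        have h7 : e * (z * z') = z * z' * e := ((hclo z hz e he).mul_right (hclo z' hz' e he)).eq
        rw [h7, cj_mul, h4]
    apply R.center
    intro d hd
    by_cases hdy : Commute d y0
    · exact hperp d hd hdy
    · obtain ⟨g, hg, hgw⟩ := M_trans R hy0.1 hw hd (fun h3 => hwy h3.symm) (fun h3 => hdy h3.symm)
      have h3 : Commute e g := (commute_of_mem_closure hg (fun s hs => (hperp s hs.1 hs.2).symm)).symm
      rw [← cj_eq_self_iff, ← hgw, ← cj_mul, h3.eq, cj_mul, h2]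
  rcases even_or_odd T hx hy hc hy0 hqy.symm he with h1 | h1
  · left; exact main e he hea h1
  · right
    have h2 := main (y0 * e) (mul_mem (Subgroup.subset_closure hy0) he)
      (hay.symm.mul_left hea) h1
    rw [mul_eq_one_iff_inv_eq, h.inv_eq hy0.1] at h2
    exact h2.symm

end

end Cfsg.Agent.ThreeTransPolar.Bound
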