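import Mathlib
import Cfsg.Agent.ThreeTransPolar.Bound

set_option autoImplicit false

/-!
# Singular lines have three or five points, hyperbolic lines have three points
-/

namespace Cfsg.Agent.ThreeTransPolar.Cases

open Cfsg Cfsg.Agent.SporadicStructure.FischerSpace Cfsg.Agent.ThreeTransPolar.Basic
open Cfsg.Agent.ThreeTransPolar.Lines Cfsg.Agent.ThreeTransPolar.Bound

variable {G : Type*} [Group G] {D : Set G}

section

variable [Finite G] (T : Thick D)
include T

/-- a point perpendicular to exactly one given point of a line -/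
theorem exists_point {x y q : G} (hx : x ∈ D) (hy : y ∈ D) (hxy : x ≠ y)
    (hq : q ∈ Line D x y) : ∃ a ∈ D, Commute a q ∧ ∃ z ∈ Line D x y, ¬ Commute a z := by
  have R := T.toRk
  by_contra hcon
  push Not at hcon
  have h1 : q = x := R.perp_sub q hq.1 x hx (fun d hd hdq => hcon d hd hdq x (mem_Line_left hx))
  have h2 : q = y := R.perp_sub q hq.1 y hy (fun d hd hdq => hcon d hd hdq y (mem_Line_right hy))
  exact hxy (h1.symm.trans h2)

/-- no four different points of a line have product one -/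
theorem no_four {x y z1 z2 z3 z4 : G} (hx : x ∈ D) (hy : y ∈ D) (hxy : x ≠ y)
    (hc : Commute x y) (h1 : z1 ∈ Line D x y) (h2 : z2 ∈ Line D x y) (h3 : z3 ∈ Line D x y)
    (h4 : z4 ∈ Line D x y) (h14 : z1 ≠ z4) (h24 : z2 ≠ z4) (h34 : z3 ≠ z4) :
    z1 * z2 * z3 * z4 ≠ 1 := by
  have h := T.fd
  intro hprod
  obtain ⟨a, ha, haq, haz⟩ := exists_point T hx hy hxy h4
  have e : z1 * z2 * z3 = z4 := by
    rw [mul_eq_one_iff_eq_inv] at hprod
    rw [hprod, h.inv_eq h4.1]
  have e2 : z1 * z4 = z2 * z3 := by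
    rw [← e]
    calc z1 * (z1 * z2 * z3) = (z1 * z1) * (z2 * z3) := by group
      _ = z2 * z3 := by rw [h.sq z1 h1.1, one_mul]
  have hodd := odd_not_mem T hx hy hxy hc h4 h1 h14 (e := z4)
    (by rw [e2]; exact mul_mem_Ev h2 h3 h24 h34) ha haq haz (cj_self z4)
  rw [cj_of_commute haq.symm] at hodd
  exact hodd (mem_Line_left ha)

/-- the fourth point -/
theorem exists_fourth {x y y0 z1 z2 z3 : G} (hx : x ∈ D) (hy : y ∈ D) (hxy : x ≠ y)
    (hc : Commute x y) (h0 : y0 ∈ Line D x y) (h1 : z1 ∈ Line D x y) (h2 : z2 ∈ Line D x y)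
    (h3 : z3 ∈ Line D x y) (h10 : z1 ≠ y0) (h20 : z2 ≠ y0) (h30 : z3 ≠ y0) (h12 : z1 ≠ z2)
    (h13 : z1 ≠ z3) (h23 : z2 ≠ z3) :
    ∃ z4 ∈ Line D x y, z4 ≠ y0 ∧ z4 ≠ z1 ∧ z4 ≠ z2 ∧ z4 ≠ z3 ∧ z1 * z2 * z3 * z4 = y0 := by
  have h := T.fd
  have R := T.toRk
  obtain ⟨a, ha, haq, haz⟩ := exists_point T hx hy hxy h0
  have hnc : ∀ z ∈ Line D x y, z ≠ y0 → ¬ Commute a z := by
    intro z hz hzy h5
    obtain ⟨v, hv, hav⟩ := haz
    exact hav (commute_of_two R hx hy hxy hc hz h0 hzy ha h5 haq hv)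
  have hu := cj_mul_mem T hx hy hxy hc ha h0 h2 h3 haq (hnc z2 h2 h20) (hnc z3 h3 h30)
  have c23 : Commute z2 z3 := Line_commute hx hy hc h2 h3
  have c02 : Commute z2 y0 := Line_commute hx hy hc h2 h0
  have c03 : Commute z3 y0 := Line_commute hx hy hc h3 h0
  have hay : a ≠ y0 := by
    rintro rfl
    obtain ⟨v, hv, hav⟩ := haz
    exact hav (Line_commute hx hy hc h0 hv)
  have huq : cj (z2 * z3) a ≠ y0 := by
    intro h5
    have h6 : cj (z2 * z3) y0 = y0 := cj_of_commute (c02.mul_left c03)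
    rw [← h6] at h5
    exact hay (by rw [h6] at h5; exact cj_inj.1 (h5.trans h6.symm))
  obtain ⟨z4, h4, ha4, h14⟩ := exists_cj_mul_eq T hx hy hxy hc ha h0 h1 haq (hnc z1 h1 h10) hu huq
  have c : ∀ u ∈ Line D x y, ∀ v ∈ Line D x y, u * v = v * u := fun u hu v hv =>
    (Line_commute hx hy hc hu hv).eq
  have s : ∀ u ∈ Line D x y, u * u = 1 := fun u hu => h.sq u hu.1
  have h40 : z4 ≠ y0 := by rintro rfl; exact ha4 haq
  -- distinctness
  have h41 : z4 ≠ z1 := by
    rintro rfl
    rw [s z4 h1, cj_one] at h14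
    exact cj_mul_ne h h2.1 h3.1 ha h23 (hnc z2 h2 h20) (hnc z3 h3 h30) h14.symm
  have h42 : z4 ≠ z2 := by
    rintro rfl
    rw [c z1 h1 z4 h4, cj_mul, cj_mul, cj_inj] at h14
    have : cj (z1 * z3) a = a := by
      rw [cj_mul, ← h14, cj_cj_self h h1.1]
    exact cj_mul_ne h h1.1 h3.1 ha h13 (hnc z1 h1 h10) (hnc z3 h3 h30) this
  have h43 : z4 ≠ z3 := by
    rintro rfl
    rw [c z1 h1 z4 h4, c z2 h2 z4 h4, cj_mul, cj_mul, cj_inj] at h14
    have : cj (z1 * z2) a = a := by
      rw [cj_mul, ← h14, cj_cj_self h h1.1]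
    exact cj_mul_ne h h1.1 h2.1 ha h12 (hnc z1 h1 h10) (hnc z2 h2 h20) this
  refine ⟨z4, h4, h40, h41, h42, h43, ?_⟩
  have he : Commute (z1 * z2 * z3 * z4) a := by
    rw [← cj_eq_self_iff]
    have e : z1 * z2 * z3 * z4 = (z2 * z3) * (z1 * z4) := by
      calc z1 * z2 * z3 * z4 = (z1 * z2) * z3 * z4 := by group
        _ = (z2 * z1) * z3 * z4 := by rw [c z1 h1 z2 h2]
        _ = z2 * (z1 * z3) * z4 := by group
        _ = z2 * (z3 * z1) * z4 := by rw [c z1 h1 z3 h3]
        _ = (z2 * z3) * (z1 * z4) := by group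
    rw [e, cj_mul, h14]
    exact cj_mul_cj_mul h h2.1 h3.1 c23 a
  have hmem : z1 * z2 * z3 * z4 ∈ Subgroup.closure (Line D x y) :=
    mul_mem (mul_mem (mul_mem (Subgroup.subset_closure h1) (Subgroup.subset_closure h2))
      (Subgroup.subset_closure h3)) (Subgroup.subset_closure h4)
  rcases centralizer_point T hx hy hxy hc h0 ha haq haz hmem he with h5 | h5
  · exact absurd h5 (no_four T hx hy hxy hc h1 h2 h3 h4 h41.symm h42.symm h43.symm)
  · exact h5

/-- if a line has three points besides `y0` then it has exactly four -/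
theorem line_eq_five {x y y0 z1 z2 z3 : G} (hx : x ∈ D) (hy : y ∈ D) (hxy : x ≠ y)
    (hc : Commute x y) (h0 : y0 ∈ Line D x y) (h1 : z1 ∈ Line D x y) (h2 : z2 ∈ Line D x y)
    (h3 : z3 ∈ Line D x y) (h10 : z1 ≠ y0) (h20 : z2 ≠ y0) (h30 : z3 ≠ y0) (h12 : z1 ≠ z2)
    (h13 : z1 ≠ z3) (h23 : z2 ≠ z3) :
    ∃ z4 ∈ Line D x y, z4 ≠ y0 ∧ z4 ≠ z1 ∧ z4 ≠ z2 ∧ z4 ≠ z3 ∧ z1 * z2 * z3 * z4 = y0 ∧
      Line D x y = {y0, z1, z2, z3, z4} := by
  have h := T.fd
  obtain ⟨z4, h4, h40, h41, h42, h43, hprod⟩ :=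
    exists_fourth T hx hy hxy hc h0 h1 h2 h3 h10 h20 h30 h12 h13 h23
  refine ⟨z4, h4, h40, h41, h42, h43, hprod, ?_⟩
  have c : ∀ u ∈ Line D x y, ∀ v ∈ Line D x y, u * v = v * u := fun u hu v hv =>
    (Line_commute hx hy hc hu hv).eq
  have s : ∀ u ∈ Line D x y, u * u = 1 := fun u hu => h.sq u hu.1
  apply Set.Subset.antisymm
  · intro z5 h5
    by_contra hcon
    simp only [Set.mem_insert_iff, Set.mem_singleton_iff, not_or] at hcon
    obtain ⟨h50, h51, h52, h53, h54⟩ := hcon
    obtain ⟨z6, h6, h60, h61, h62, h65, hprod'⟩ :=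
      exists_fourth T hx hy hxy hc h0 h1 h2 h5 h10 h20 h50 h12 (Ne.symm h51) (Ne.symm h52)
    have e : z3 * z4 = z5 * z6 := by
      have : z1 * z2 * (z3 * z4) = z1 * z2 * (z5 * z6) := by
        rw [← mul_assoc, ← mul_assoc, hprod, hprod']
      exact mul_left_cancel this
    by_cases h63 : z6 = z3
    · rw [h63, c z5 h5 z3 h3] at e
      exact h54 (mul_left_cancel e).symm
    by_cases h64 : z6 = z4
    · rw [h64] at e
      exact h53 (mul_right_cancel e).symm
    refine no_four T hx hy hxy hc h3 h4 h5 h6 (Ne.symm h63) (Ne.symm h64) (Ne.symm h65) ?_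
    rw [mul_assoc (z3 * z4), e]
    calc z5 * z6 * (z5 * z6) = z5 * (z6 * z5) * z6 := by group
      _ = z5 * (z5 * z6) * z6 := by rw [c z6 h6 z5 h5]
      _ = (z5 * z5) * (z6 * z6) := by group
      _ = 1 := by rw [s z5 h5, s z6 h6, one_mul]
  · intro z hz
    simp only [Set.mem_insert_iff, Set.mem_singleton_iff] at hz
    rcases hz with rfl | rfl | rfl | rfl | rfl <;> assumption

/-- the product of the five points of a line of size five -/
theorem prod_five {x y a b c d e : G} (hx : x ∈ D) (hy : y ∈ D) (hxy : x ≠ y)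
    (hc : Commute x y) (ha : a ∈ Line D x y) (hb : b ∈ Line D x y) (hc' : c ∈ Line D x y)
    (hd : d ∈ Line D x y) (he : e ∈ Line D x y) (hab : a ≠ b) (hac : a ≠ c) (had : a ≠ d)
    (hae : a ≠ e) (hbc : b ≠ c) (hbd : b ≠ d) (hbe : b ≠ e) (hcd : c ≠ d) (hce : c ≠ e)
    (hde : d ≠ e) : a * b * c * d * e = 1 := by
  obtain ⟨z4, h4, h40, h41, h42, h43, hprod, hL⟩ :=
    line_eq_five T hx hy hxy hc he ha hb hc' hae hbe hce hab hac hbc
  have hd' := hd
  rw [hL] at hd'
  simp only [Set.mem_insert_iff, Set.mem_singleton_iff] at hd'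
  rcases hd' with h | h | h | h | h
  · exact absurd h hde
  · exact absurd h had.symm
  · exact absurd h hbd.symm
  · exact absurd h hcd.symm
  · rw [← h] at hprod
    rw [hprod, T.fd.sq e he.1]

/-- lines have three or five points -/
theorem ncard_Line {x y : G} (hx : x ∈ D) (hy : y ∈ D) (hxy : x ≠ y)
    (hc : Commute x y) : (Line D x y).ncard = 3 ∨ (Line D x y).ncard = 5 := by
  classical
  obtain ⟨z, hz, hzx, hzy⟩ := T.third x hx y hy hxy hc
  by_cases h3 : Line D x y = {x, y, z}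
  · left
    rw [h3, Set.ncard_insert_of_notMem, Set.ncard_pair (Ne.symm hzy)]
    simp only [Set.mem_insert_iff, Set.mem_singleton_iff, not_or]
    exact ⟨hxy, Ne.symm hzx⟩
  · right
    -- there is a fourth point
    have h4 : ∃ w ∈ Line D x y, w ≠ x ∧ w ≠ y ∧ w ≠ z := by
      by_contra hcon
      push Not at hcon
      apply h3
      apply Set.Subset.antisymm
      · intro w hw
        simp only [Set.mem_insert_iff, Set.mem_singleton_iff]
        by_contra hcon'
        simp only [not_or] at hcon'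
        exact hcon'.2.2 (hcon w hw hcon'.1 hcon'.2.1)
      · intro w hw
        simp only [Set.mem_insert_iff, Set.mem_singleton_iff] at hw
        rcases hw with rfl | rfl | rfl
        · exact mem_Line_left hx
        · exact mem_Line_right hy
        · exact hz
    obtain ⟨w, hw, hwx, hwy, hwz⟩ := h4
    obtain ⟨z4, h4, h40, h41, h42, h43, -, hL⟩ :=
      line_eq_five T hx hy hxy hc (mem_Line_left hx) (mem_Line_right hy) hz hw
        (Ne.symm hxy) hzx hwx (Ne.symm hzy) (Ne.symm hwy) (Ne.symm hwz)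
    rw [hL, Set.ncard_insert_of_notMem, Set.ncard_insert_of_notMem, Set.ncard_insert_of_notMem,
      Set.ncard_pair (Ne.symm h43)]
    · simp only [Set.mem_insert_iff, Set.mem_singleton_iff, not_or]
      exact ⟨Ne.symm hwz, Ne.symm h42⟩
    · simp only [Set.mem_insert_iff, Set.mem_singleton_iff, not_or]
      exact ⟨Ne.symm hzy, Ne.symm hwy, Ne.symm h41⟩
    · simp only [Set.mem_insert_iff, Set.mem_singleton_iff, not_or]
      exact ⟨hxy, Ne.symm hzx, Ne.symm hwx, Ne.symm h40⟩

/-! ### Hyperbolic lines -/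

theorem hyp_not_commute {x w v : G} (hx : x ∈ D) (hw : w ∈ D)
    (hxw : ¬ Commute x w) (hv : v ∈ Line D x w) (hvx : v ≠ x) : ¬ Commute v x := by
  have R := T.toRk
  intro hc
  apply hvx
  symm
  apply R.perp_sub x hx v hv.1
  intro b hb hbx
  by_cases hbx' : b = x
  · rw [hbx']; exact hc.symm
  · obtain ⟨c, hcm, hwc⟩ := exists_commute T hb hx hbx' hbx hw
    have hcx : c ≠ x := by rintro rfl; exact hxw hwc.symm
    have hcx' : Commute c x := Line_commute hb hx hbx hcm (mem_Line_right hx)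
    have h1 : Commute c v := hv.2 c hcm.1 hcx' hwc.symm
    exact (commute_of_two R hb hx hbx' hbx hcm (mem_Line_right hx) hcx hv.1 h1.symm hc
      (mem_Line_left hb)).symm

theorem hyp_eq_left {x w v : G} (hx : x ∈ D) (hw : w ∈ D)
    (hxw : ¬ Commute x w) (hv : v ∈ Line D x w) (hvx : v ≠ x) : Line D x v = Line D x w := by
  have R := T.toRk
  have h1 : ¬ Commute x v := fun h2 => hyp_not_commute T hx hw hxw hv hvx h2.symm
  obtain ⟨g, hg1, hg2⟩ := pair_conj_col R hx hw hx hv.1 hxw h1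
  have h2 := perp2_iff R hg1 hg2 (fun d hd h3 h4 => ⟨h3, hv.2 d hd h3 h4⟩)
  ext u
  constructor
  · rintro ⟨hu, h3⟩
    exact ⟨hu, fun d hd h4 h5 => h3 d hd h4 ((h2 d hd).1 ⟨h4, h5⟩).2⟩
  · rintro ⟨hu, h3⟩
    exact ⟨hu, fun d hd h4 h5 => h3 d hd h4 ((h2 d hd).2 ⟨h4, h5⟩).2⟩

theorem hyp_two {x w v v' : G} (hx : x ∈ D) (hw : w ∈ D)
    (hxw : ¬ Commute x w) (hv : v ∈ Line D x w) (hv' : v' ∈ Line D x w) (hne : v ≠ v') :
    ¬ Commute v v' ∧ Line D v v' = Line D x w := by
  by_cases hvx : v = x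
  · subst hvx
    exact ⟨fun h1 => hyp_not_commute T hx hw hxw hv' (Ne.symm hne) h1.symm,
      hyp_eq_left T hx hw hxw hv' (Ne.symm hne)⟩
  · have h1 : ¬ Commute v x := hyp_not_commute T hx hw hxw hv hvx
    have h2 : Line D v x = Line D x w := by
      rw [Line_comm, hyp_eq_left T hx hw hxw hv hvx]
    have hv'' : v' ∈ Line D v x := by rw [h2]; exact hv'
    refine ⟨fun h3 => hyp_not_commute T hv.1 hx h1 hv'' (Ne.symm hne) h3.symm, ?_⟩
    rw [hyp_eq_left T hv.1 hx h1 hv'' (Ne.symm hne), h2]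

theorem third_mem_hyp {x w v v' : G} (hv : v ∈ Line D x w) (hv' : v' ∈ Line D x w) :
    cj v v' ∈ Line D x w :=
  ⟨cj_mem T.fd hv'.1, fun d hd h1 h2 => commute_cj_of (hv.2 d hd h1 h2) (hv'.2 d hd h1 h2)⟩

/-- a common neighbour of noncommuting points -/
theorem exists_common {x w : G} (hx : x ∈ D) (hw : w ∈ D) (hxw : ¬ Commute x w) :
    ∃ y ∈ D, Commute y x ∧ Commute y w := by
  have R := T.toRk
  obtain ⟨p, hp, p', hp', d, hd, h1, h2, h3⟩ := R.exNonPerp
  obtain ⟨g, hg1, hg2⟩ := pair_conj_col R hp hp' hx hw h1 hxw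
  refine ⟨cj g d, cj_mem R.fd hd, ?_, ?_⟩
  · rw [← hg1, commute_cj]; exact h2
  · rw [← hg2, commute_cj]; exact h3

/-- hyperbolic lines are not larger than singular lines -/
theorem ncard_hyp_le {x w y : G} (hx : x ∈ D) (hw : w ∈ D) (hxw : ¬ Commute x w) (hy : y ∈ D)
    (hyx : Commute y x) (hyw : Commute y w) : (Line D x w).ncard ≤ (Line D w y).ncard := by
  have R := T.toRk
  have h := T.fd
  have hxy : x ≠ y := by rintro rfl; exact hxw hyw
  have hwy : w ≠ y := by rintro rfl; exact hxw hyx.symm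
  obtain ⟨z, hz, hzx, hzy⟩ := T.third x hx y hy hxy hyx.symm
  have hzx' : Commute z x := Line_commute hx hy hyx.symm hz (mem_Line_left hx)
  have hzy' : Commute z y := Line_commute hx hy hyx.symm hz (mem_Line_right hy)
  -- properties of points of the hyperbolic line
  have hpt : ∀ v ∈ Line D x w, Commute v y ∧ v ≠ y := by
    intro v hv
    have h1 := (hv.2 y hy hyx hyw).symm
    refine ⟨h1, ?_⟩
    rintro rfl
    exact hyp_not_commute T hx hw hxw hv (Ne.symm hxy) hyx
  have hex : ∀ v ∈ Line D x w \ {x}, ∃ v' ∈ Line D v y, ¬ Commute x v' ∧ cj (v * v') x = z := by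
    rintro v ⟨hv, hvx⟩
    have hvx' : v ≠ x := hvx
    obtain ⟨h1, h2⟩ := hpt v hv
    have h3 : ¬ Commute x v := fun h4 => hyp_not_commute T hx hw hxw hv hvx' h4.symm
    exact exists_cj_mul_eq T hv.1 hy h2 h1 hx (mem_Line_right hy) (mem_Line_left hv.1)
      hyx.symm h3 hz hzy
  choose! f hf1 hf2 hf3 using hex
  have hcomm : ∀ v ∈ Line D x w \ {x}, Commute v (f v) := fun v hv =>
    Line_commute hv.1.1 hy (hpt v hv.1).1 (mem_Line_left hv.1.1) (hf1 v hv)
  have hmaps : ∀ v ∈ Line D x w \ {x}, cj (v * f v) w ∈ Line D w y \ {y} := by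
    intro v hv
    obtain ⟨h1, h2⟩ := hpt v hv.1
    have hfy : Commute (f v) y :=
      Line_commute hv.1.1 hy h1 (hf1 v hv) (mem_Line_right hy)
    have hgy : cj (v * f v) y = y := by
      rw [cj_mul, cj_of_commute hfy, cj_of_commute h1]
    constructor
    · by_cases hvw : v = w
      · have h3 : Commute (f v) w := by
          have := (hcomm v hv).symm
          rwa [hvw] at this ⊢
        rw [cj_mul, cj_of_commute h3, hvw, cj_self]
        exact mem_Line_left hw
      · have h3 : ¬ Commute w v := (hyp_two T hx hw hxw (mem_Line_right hw) hv.1 (Ne.symm hvw)).1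
        have hfne : f v ≠ y := by
          intro h4
          have := hf2 v hv
          rw [h4] at this
          exact this hyx.symm
        have h5 : ¬ Commute w (f v) := fun h6 => h3
          (commute_of_two R hv.1.1 hy h2 h1 (hf1 v hv) (mem_Line_right hy) hfne hw h6 hyw.symm
            (mem_Line_left hv.1.1))
        exact cj_mul_mem T hv.1.1 hy h2 h1 hw (mem_Line_right hy) (mem_Line_left hv.1.1)
          (hf1 v hv) hyw.symm h3 h5
    · intro h3
      have h4 : cj (v * f v) w = cj (v * f v) y := by rw [hgy]; exact h3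
      exact hwy (cj_inj.1 h4)
  have hinj : Set.InjOn (fun v => cj (v * f v) w) (Line D x w \ {x}) := by
    intro v1 hv1 v2 hv2 heq
    have heq' : cj (v1 * f v1) w = cj (v2 * f v2) w := heq
    by_contra hne
    have hmem : ∀ v ∈ Line D x w \ {x}, v ∈ Line D z (cj (v * f v) w) := by
      intro v hv
      have h1 := cj_mem_Line h (g := v * f v) hv.1
      rw [hf3 v hv] at h1
      have h2 : cj (v * f v) v = v := by
        rw [cj_mul, cj_of_commute (hcomm v hv).symm, cj_self]
      rwa [h2] at h1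
    have h1 := hmem v1 hv1
    have h2 := hmem v2 hv2
    rw [← heq'] at h2
    have hzw : ¬ Commute z (cj (v1 * f v1) w) := by
      rw [← hf3 v1 hv1, commute_cj]; exact hxw
    have e1 := (hyp_two T hx hw hxw hv1.1 hv2.1 hne).2
    have e2 := (hyp_two T (Line_mem hz) (cj_mem h hw) hzw h1 h2 hne).2
    have h3 : z ∈ Line D x w := by
      rw [← e1, e2]; exact mem_Line_left (Line_mem hz)
    exact hyp_not_commute T hx hw hxw h3 hzx hzx'
  have hle : (Line D x w \ {x}).ncard ≤ (Line D w y \ {y}).ncard :=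
    Set.ncard_le_ncard_of_injOn _ hmaps hinj (Set.toFinite _)
  have c1 : (Line D x w \ {x}).ncard + 1 = (Line D x w).ncard :=
    Set.ncard_diff_singleton_add_one (mem_Line_left hx) (Set.toFinite _)
  have c2 : (Line D w y \ {y}).ncard + 1 = (Line D w y).ncard :=
    Set.ncard_diff_singleton_add_one (mem_Line_right hy) (Set.toFinite _)
  omega

/-- hyperbolic lines have exactly three points -/
theorem hyp_eq {x w v : G} (hx : x ∈ D) (hw : w ∈ D) (hxw : ¬ Commute x w)
    (hv : v ∈ Line D x w) : v = x ∨ v = w ∨ v = cj x w := by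
  classical
  have R := T.toRk
  have h := T.fd
  by_contra hcon
  simp only [not_or] at hcon
  obtain ⟨hvx, hvw, hvu⟩ := hcon
  obtain ⟨y, hy, hyx, hyw⟩ := exists_common T hx hw hxw
  have hwy : w ≠ y := by rintro rfl; exact hxw hyx.symm
  have hle := ncard_hyp_le T hx hw hxw hy hyx hyw
  have h5 : (Line D w y).ncard ≤ 5 := by
    rcases ncard_Line T hw hy hwy hyw.symm with h1 | h1 <;> omega
  have hwx : w ≠ x := by rintro rfl; exact hxw (Commute.refl _)
  have mx : x ∈ Line D x w := mem_Line_left hx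
  have mw : w ∈ Line D x w := mem_Line_right hw
  have n1 : ¬ Commute x v := (hyp_two T hx hw hxw mx hv (Ne.symm hvx)).1
  have n2 : ¬ Commute w v := (hyp_two T hx hw hxw mw hv (Ne.symm hvw)).1
  have mu := third_mem_hyp T mx mw
  have ma := third_mem_hyp T mx hv
  have mb := third_mem_hyp T mw hv
  have exw : cj w x = cj x w := (third_comm h hx hw hxw).symm
  have hsub : (({x, w, cj x w, v, cj x v, cj w v} : Finset G) : Set G) ⊆ Line D x w := by
    intro u hu
    simp only [Finset.coe_insert, Finset.coe_singleton, Set.mem_insert_iff,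
      Set.mem_singleton_iff] at hu
    rcases hu with rfl | rfl | rfl | rfl | rfl | rfl <;> assumption
  have hcard : ({x, w, cj x w, v, cj x v, cj w v} : Finset G).card = 6 := by
    have e1 : cj x v ≠ x := fun h1 => hvx (cj_inj.1 (h1.trans (cj_self x).symm))
    have e2 : cj x v ≠ w := fun h1 => hvu (by rw [← h1, cj_cj_self h hx])
    have e3 : cj x v ≠ cj x w := fun h1 => hvw (cj_inj.1 h1)
    have e4 : cj x v ≠ v := third_ne_right n1
    have e5 : cj w v ≠ x := fun h1 => hvu (by rw [← exw, ← h1, cj_cj_self h hw])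
    have e6 : cj w v ≠ w := fun h1 => hvw (cj_inj.1 (h1.trans (cj_self w).symm))
    have e7 : cj w v ≠ cj x w := fun h1 => hvx (by rw [← exw] at h1; exact cj_inj.1 h1)
    have e8 : cj w v ≠ v := third_ne_right n2
    have e9 : cj x v ≠ cj w v := by
      intro h1
      rw [third_comm h hx hv.1 n1, third_comm h hw hv.1 n2] at h1
      exact hwx (cj_inj.1 h1).symm
    have e10 : cj x w ≠ x := third_ne_left h hx hxw
    have e11 : cj x w ≠ w := third_ne_right hxw
    rw [Finset.card_insert_of_notMem, Finset.card_insert_of_notMem, Finset.card_insert_of_notMem,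
      Finset.card_insert_of_notMem, Finset.card_pair e9]
    · simp only [Finset.mem_insert, Finset.mem_singleton, not_or]
      exact ⟨Ne.symm e4, Ne.symm e8⟩
    · simp only [Finset.mem_insert, Finset.mem_singleton, not_or]
      exact ⟨Ne.symm hvu, Ne.symm e3, Ne.symm e7⟩
    · simp only [Finset.mem_insert, Finset.mem_singleton, not_or]
      exact ⟨Ne.symm e11, Ne.symm hvw, Ne.symm e2, Ne.symm e6⟩
    · simp only [Finset.mem_insert, Finset.mem_singleton, not_or]
      exact ⟨Ne.symm hwx, Ne.symm e10, Ne.symm hvx, Ne.symm e1, Ne.symm e5⟩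
  have h6 : 6 ≤ (Line D x w).ncard := by
    rw [← hcard, ← Set.ncard_coe_finset]
    exact Set.ncard_le_ncard hsub (Set.toFinite _)
  omega

end

end Cfsg.Agent.ThreeTransPolar.Cases
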