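import Mathlib
import Cfsg.Prelude.Def_Solvable
import Cfsg.Agent.Lib.Cores
import Cfsg.Agent.ThreeTransPolar.Cases

set_option autoImplicit false

/-!
# The polar space of a 3-transposition group with noncentral `O₂(⟨D_x⟩)`

Main results: `thick_of_pCore` (lines have at least three points) and `polar_cases`
(`Polar D 3` or `Polar D 5`).
-/

namespace Cfsg.Agent.ThreeTransPolar.Main

open Cfsg Cfsg.Agent.SporadicStructure.FischerSpace Cfsg.Agent.ThreeTransPolar.Basic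
open Cfsg.Agent.ThreeTransPolar.Lines Cfsg.Agent.ThreeTransPolar.Bound
open Cfsg.Agent.ThreeTransPolar.Cases

variable {G : Type*} [Group G] {D : Set G}

/-- The polar space of commuting members of `D`, with lines of `k` points. -/
structure Polar (D : Set G) (k : ℕ) : Prop where
  rk : Rk D
  fd : FData D
  center : ∀ g : G, (∀ d ∈ D, Commute g d) → g = 1
  noTwins : ∀ x ∈ D, ∀ y ∈ D, (∀ d ∈ D, Commute d x ↔ Commute d y) → x = y
  perp_sub : ∀ x ∈ D, ∀ y ∈ D, (∀ d ∈ D, Commute d x → Commute d y) → x = y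
  card : ∀ x ∈ D, ∀ y ∈ D, x ≠ y → Commute x y → (Line D x y).ncard = k
  line_eq : ∀ x ∈ D, ∀ y ∈ D, x ≠ y → Commute x y → ∀ z ∈ Line D x y, ∀ z' ∈ Line D x y, z ≠ z' →
    Line D z z' = Line D x y
  of_two : ∀ x ∈ D, ∀ y ∈ D, x ≠ y → Commute x y → ∀ z ∈ Line D x y, ∀ z' ∈ Line D x y, z ≠ z' →
    ∀ d ∈ D, Commute d z → Commute d z' → ∀ u ∈ Line D x y, Commute d u
  one : ∀ x ∈ D, ∀ y ∈ D, x ≠ y → Commute x y → ∀ d ∈ D, ∃ z ∈ Line D x y, Commute d z
  ex : ∃ x ∈ D, ∃ y ∈ D, x ≠ y ∧ Commute x y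
  exn : ∃ x ∈ D, ∃ y ∈ D, ¬ Commute x y
  common : ∀ x ∈ D, ∀ y ∈ D, ¬ Commute x y → ∃ d ∈ D, Commute d x ∧ Commute d y
  hyp : ∀ x ∈ D, ∀ y ∈ D, ¬ Commute x y → ∀ z ∈ D,
    (∀ d ∈ D, Commute d x → Commute d y → Commute d z) → z = x ∨ z = y ∨ z = x * y * x
  prod : k = 5 → ∀ x ∈ D, ∀ y ∈ D, x ≠ y → Commute x y → ∀ a ∈ Line D x y, ∀ b ∈ Line D x y,
    ∀ c ∈ Line D x y, ∀ d ∈ Line D x y, ∀ e ∈ Line D x y, a ≠ b → a ≠ c → a ≠ d → a ≠ e →
    b ≠ c → b ≠ d → b ≠ e → c ≠ d → c ≠ e → d ≠ e → a * b * c * d * e = 1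
  trans : ∀ x ∈ D, ∀ a ∈ D, ∀ b ∈ D, ¬ Commute x a → ¬ Commute x b →
    ∃ g ∈ Subgroup.closure {d | d ∈ D ∧ Commute d x}, g * a * g⁻¹ = b
  pairsCom : ∀ x ∈ D, ∀ y ∈ D, ∀ z ∈ D, ∀ w ∈ D, x ≠ y → z ≠ w → Commute x y → Commute z w →
    ∃ g : G, g * x * g⁻¹ = z ∧ g * y * g⁻¹ = w
  pairsCol : ∀ x ∈ D, ∀ y ∈ D, ∀ z ∈ D, ∀ w ∈ D, ¬ Commute x y → ¬ Commute z w →
    ∃ g : G, g * x * g⁻¹ = z ∧ g * y * g⁻¹ = w
  pointFix : ∀ x ∈ D, ∀ y ∈ D, x ≠ y → Commute x y → ∀ q ∈ Line D x y, ∀ a ∈ D, Commute a q →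
    (∃ z ∈ Line D x y, ¬ Commute a z) → ∀ e ∈ Subgroup.closure (Line D x y), Commute e a →
    e = 1 ∨ e = q

theorem polar_of_thick [Finite G] (T : Thick D) {k : ℕ}
    (hk : ∀ x ∈ D, ∀ y ∈ D, x ≠ y → Commute x y → (Line D x y).ncard = k) : Polar D k where
  rk := T.toRk
  fd := T.fd
  center := T.center
  noTwins := fun x hx y hy h => T.perp_sub x hx y hy (fun d hd h1 => (h d hd).1 h1)
  perp_sub := T.perp_sub
  card := hk
  line_eq := fun x hx y hy hxy hc z hz z' hz' hne => Line_eq T.toRk hx hy hxy hc hz hz' hne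
  of_two := fun x hx y hy hxy hc z hz z' hz' hne d hd h1 h2 u hu =>
    commute_of_two T.toRk hx hy hxy hc hz hz' hne hd h1 h2 hu
  one := fun x hx y hy hxy hc d hd => exists_commute T hx hy hxy hc hd
  ex := by
    obtain ⟨x, hx⟩ := T.fd.nonempty
    obtain ⟨z, hz, hzx, hc⟩ := T.exPerp x hx
    exact ⟨x, hx, z, hz, hzx.symm, hc⟩
  exn := by
    obtain ⟨x, hx⟩ := T.fd.nonempty
    obtain ⟨z, hz, hc⟩ := T.exCol x hx
    exact ⟨x, hx, z, hz, hc⟩
  common := fun x hx y hy hc => exists_common T hx hy hc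
  hyp := fun x hx y hy hc z hz h => by
    rw [← cj_eq_mul T.fd hx]
    exact hyp_eq T hx hy hc ⟨hz, h⟩
  prod := fun _ x hx y hy hxy hc a ha b hb c hc' d hd e he h1 h2 h3 h4 h5 h6 h7 h8 h9 h10 =>
    prod_five T hx hy hxy hc ha hb hc' hd he h1 h2 h3 h4 h5 h6 h7 h8 h9 h10
  trans := fun x hx a ha b hb h1 h2 => M_trans T.toRk hx ha hb h1 h2
  pairsCom := fun x hx y hy z hz w hw h1 h2 h3 h4 =>
    pair_conj_com T.toRk hx hy hz hw h1 h2 h3 h4
  pairsCol := fun x hx y hy z hz w hw h1 h2 => pair_conj_col T.toRk hx hy hz hw h1 h2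
  pointFix := fun x hx y hy hxy hc q hq a ha haq haz e he hea =>
    centralizer_point T hx hy hxy hc hq ha haq haz he hea

/-- Lines have three or five points. -/
theorem polar_cases [Finite G] (T : Thick D) : Polar D 3 ∨ Polar D 5 := by
  obtain ⟨x, hx⟩ := T.fd.nonempty
  obtain ⟨y, hy, hyx, hc⟩ := T.exPerp x hx
  rcases ncard_Line T hx hy hyx.symm hc with h1 | h1
  · left
    exact polar_of_thick T (fun z hz w hw hzw hc' =>
      (ncard_Line_eq T.toRk hz hw hx hy hzw hyx.symm hc' hc).trans h1)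
  · right
    exact polar_of_thick T (fun z hz w hw hzw hc' =>
      (ncard_Line_eq T.toRk hz hw hx hy hzw hyx.symm hc' hc).trans h1)

/-- One line with a third point is enough. -/
theorem thick_of_exists [Finite G] (R : Rk D) {x y : G} (hx : x ∈ D) (hy : y ∈ D) (hxy : x ≠ y)
    (hc : Commute x y) (h : ∃ z ∈ Line D x y, z ≠ x ∧ z ≠ y) : Thick D where
  toRk := R
  third := by
    intro z hz w hw hzw hc'
    obtain ⟨g, hg1, hg2⟩ := pair_conj_com R hx hy hz hw hxy hzw hc hc'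
    obtain ⟨u, hu, hux, huy⟩ := h
    refine ⟨cj g u, ?_, ?_, ?_⟩
    · rw [← hg1, ← hg2]; exact cj_mem_Line R.fd hu
    · rw [← hg1]; exact fun h1 => hux (cj_inj.1 h1)
    · rw [← hg2]; exact fun h1 => huy (cj_inj.1 h1)

/-- `y` and `n y n⁻¹` lie on a line through `x` if `n` lies in a normal 2-subgroup of
`⟨D_x⟩`. -/
theorem mem_Line_of_isPGroup (h : FData D) {x y n : G} (P : Subgroup G)
    (hP : IsPGroup 2 P) (hn : ∀ d ∈ D, Commute d x → ∀ p ∈ P, cj d p ∈ P)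
    (hnP : n ∈ P) (hy : y ∈ D) (hyx : Commute y x) : cj n y ∈ Line D x y := by
  -- elements `u v` of `P` with `u, v ∈ D` commute
  have key : ∀ u ∈ D, ∀ v ∈ D, u * v ∈ P → Commute u v := by
    intro u hu v hv huv
    by_contra hcon
    obtain ⟨k, hk⟩ := hP ⟨u * v, huv⟩
    have hk' : (u * v) ^ (2 ^ k) = 1 := by
      have := congrArg Subtype.val hk
      simpa using this
    have h3 : (u * v) ^ 3 = 1 := by
      have hb := h.braid u hu v hv hcon
      calc (u * v) ^ 3 = (u * v * u) * (v * u * v) := by simp only [pow_succ, pow_zero, one_mul, mul_assoc]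
        _ = (u * v * u) * (u * v * u) := by rw [hb]
        _ = u * v * (u * u) * v * u := by simp only [mul_assoc]
        _ = 1 := by rw [h.sq u hu, mul_one, mul_assoc u v v, h.sq v hv, mul_one, h.sq u hu]
    have h1 : orderOf (u * v) ∣ 1 := by
      have hco : Nat.Coprime (2 ^ k) 3 := Nat.Coprime.pow_left k (by norm_num)
      rw [← hco]
      exact Nat.dvd_gcd (orderOf_dvd_of_pow_eq_one hk') (orderOf_dvd_of_pow_eq_one h3)
    rw [Nat.dvd_one, orderOf_eq_one_iff] at h1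
    apply hcon
    have : u = v := by
      rw [mul_eq_one_iff_eq_inv, h.inv_eq hv] at h1
      exact h1
    rw [this]
  have hy' : cj n y ∈ D := cj_mem h hy
  -- `y (n y n⁻¹) ∈ P`
  have hab : y * cj n y ∈ P := by
    have e : y * cj n y = cj y n * n⁻¹ := by
      rw [cj_def, cj_def, h.inv_eq hy]; simp only [mul_assoc]
    rw [e]
    exact mul_mem (hn y hy hyx n hnP) (inv_mem hnP)
  refine ⟨hy', fun d hd h1 h2 => ?_⟩
  have hba : cj d (y * cj n y) ∈ P := hn d hd h1 _ hab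
  have hb : cj n y * cj d (cj n y) ∈ P := by
    have e : cj n y * cj d (cj n y) = (y * cj n y)⁻¹ * cj d (y * cj n y) := by
      have h3 : cj d (y * cj n y) = y * cj d (cj n y) := by
        have : cj d (y * cj n y) = cj d y * cj d (cj n y) := by
          simp only [cj_def]; group
        rw [this, cj_of_commute h2]
      rw [h3, mul_inv_rev, h.inv_eq hy, h.inv_eq hy']
      calc cj n y * cj d (cj n y) = cj n y * (y * y) * cj d (cj n y) := by rw [h.sq y hy, mul_one]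
        _ = cj n y * y * (y * cj d (cj n y)) := by group
    rw [e]
    exact mul_mem (inv_mem hab) hba
  have h3 := key _ hy' _ (cj_mem h hy') hb
  by_contra hcon
  have h4 := third_comm h hd hy' hcon
  rw [h4] at h3
  exact not_commute_third h hy' (fun h5 => hcon h5.symm) h3.symm

/-- The hypothesis of S1616: `O₂(⟨D_x⟩)` is not central. -/
theorem thick_of_pCore [Finite G] (R : Rk D) {x : G} (hx : x ∈ D)
    (hc : ¬ Cfsg.pCore 2 ↥(Subgroup.closure {y : G | y ∈ D ∧ y ≠ x ∧ Commute x y}) ≤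
      Subgroup.center ↥(Subgroup.closure {y : G | y ∈ D ∧ y ≠ x ∧ Commute x y})) : Thick D := by
  set H : Subgroup G := Subgroup.closure {y : G | y ∈ D ∧ y ≠ x ∧ Commute x y} with hH
  have h := R.fd
  obtain ⟨n, hn, hnc⟩ := SetLike.not_le_iff_exists.1 hc
  -- a generator not commuting with `n`
  have hcx : ∀ g ∈ H, Commute g x := fun g hg =>
    commute_of_mem_closure hg (fun s hs => hs.2.2.symm)
  obtain ⟨y, ⟨hy, hyx, hxy⟩, hny⟩ : ∃ y ∈ {y : G | y ∈ D ∧ y ≠ x ∧ Commute x y},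
      ¬ Commute (n : G) y := by
    by_contra hcon
    push Not at hcon
    apply hnc
    rw [Subgroup.mem_center_iff]
    intro g
    apply Subtype.ext
    exact (commute_of_mem_closure g.2 (fun s hs => (hcon s hs).symm)).eq
  have hmemH : ∀ d ∈ D, Commute d x → d ≠ x → d ∈ H := fun d hd h1 h2 =>
    Subgroup.subset_closure ⟨hd, h2, h1.symm⟩
  have hPn : (Cfsg.pCore 2 ↥H).Normal := Cfsg.Agent.Lib.Cores.pCore_normal 2
  have hline := mem_Line_of_isPGroup h ((Cfsg.pCore 2 ↥H).map H.subtype)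
    ((Cfsg.Agent.Lib.Cores.pCore_isPGroup 2).map H.subtype)
    (fun d hd hdx p hp => by
      obtain ⟨p', hp', rfl⟩ := hp
      by_cases hdx' : d = x
      · have : cj d (H.subtype p') = H.subtype p' := by
          rw [hdx']; exact cj_of_commute (hcx _ p'.2).symm
        rw [this]
        exact ⟨p', hp', rfl⟩
      · exact ⟨⟨d, hmemH d hd hdx hdx'⟩ * p' * ⟨d, hmemH d hd hdx hdx'⟩⁻¹,
          hPn.conj_mem p' hp' _, rfl⟩)
    ⟨n, hn, rfl⟩ hy hxy.symm
  refine thick_of_exists R hx hy hyx.symm hxy ⟨_, hline, ?_, ?_⟩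
  · intro h1
    apply hyx
    have h2 : cj (n : G) x = x := cj_of_commute (hcx _ n.2)
    exact cj_inj.1 (h1.trans h2.symm)
  · intro h1
    exact hny (cj_eq_self_iff.1 h1)

/-- The polar space part of S1616. -/
theorem polar_of_hyps [Finite G]
    (hsol : ∀ N : Subgroup G, N.Normal → Group.IsSolvable ↥N → N = ⊥)
    (hperf : ⁅commutator G, commutator G⁆ = commutator G)
    (hD : Cfsg.IsThreeTranspositionClass D)
    (hone : ∀ x ∈ D, ∀ y ∈ {y : G | y ∈ D ∧ y ≠ x ∧ Commute x y},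
      ∀ y' ∈ {y : G | y ∈ D ∧ y ≠ x ∧ Commute x y},
      ∃ g ∈ Subgroup.closure {y : G | y ∈ D ∧ y ≠ x ∧ Commute x y}, g * y * g⁻¹ = y')
    {x : G} (hx : x ∈ D)
    (hc : ¬ Cfsg.pCore 2 ↥(Subgroup.closure {y : G | y ∈ D ∧ y ≠ x ∧ Commute x y}) ≤
      Subgroup.center ↥(Subgroup.closure {y : G | y ∈ D ∧ y ≠ x ∧ Commute x y})) :
    Polar D 3 ∨ Polar D 5 :=
  polar_cases (thick_of_pCore (rk_of_hyps hsol hperf hD hone) hx hc)

end Cfsg.Agent.ThreeTransPolar.Main
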